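import Groth.Agent.Sga7.H749.Final
import Groth.Agent.Sga7.H760.RamExt

/-!
# S4069: the field theoretic input
-/

set_option autoImplicit false
universe u

namespace Groth.Agent.Sga7.H749.Final

theorem extProp : ExtProp.{u} :=
  fun R K _ _ _ _ _ _ κ _ r hr ha T => Groth.Agent.Sga7.H760.RamExt.exists_ext R K κ r hr ha T

end Groth.Agent.Sga7.H749.Final
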