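import Mathlib.RingTheory.Etale.Basic
import Mathlib.Algebra.DualNumber

/-!
# Dual numbers and étale lifts

Ring homomorphisms into dual numbers, functoriality, scaling of `ε`, and the unique extension of a ring homomorphism
`B → S[ε]` along a formally étale map `B → E`.
-/

set_option autoImplicit false
universe u v w x

open TrivSqZeroExt

noncomputable section

namespace Groth.Agent.Sga7.H749.DualLift

variable {S : Type u} {T : Type v} {U : Type w} [CommRing S] [CommRing T] [CommRing U]

/-- `S[ε] → S` -/
def fstR (S : Type u) [CommRing S] : DualNumber S →+* S := (TrivSqZeroExt.fstHom S S S).toRingHom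

@[simp] lemma fstR_apply (x : DualNumber S) : fstR S x = x.fst := rfl

/-- `S → S[ε]` -/
def inlR (S : Type u) [CommRing S] : S →+* DualNumber S := TrivSqZeroExt.inlHom S S

@[simp] lemma inlR_apply (x : S) : inlR S x = inl x := rfl

@[simp] lemma fstR_comp_inlR : (fstR S).comp (inlR S) = RingHom.id S := by ext; rfl

lemma fstR_surjective : Function.Surjective (fstR S) := fun x => ⟨inlR S x, rfl⟩

/-- functoriality of dual numbers, with scaling: `a + bε ↦ f a + c f b ε`. -/
def scaleMap (f : S →+* T) (c : T) : DualNumber S →+* DualNumber T where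
  toFun x := inl (f x.fst) + inr (c * f x.snd)
  map_one' := by ext <;> simp
  map_mul' x y := by
    ext
    · simp
    · simp only [snd_mul, map_add, map_mul, snd_add, snd_inl, snd_inr, zero_add, fst_add, fst_inl, fst_inr,
        add_zero, smul_eq_mul, MulOpposite.smul_eq_mul_unop, MulOpposite.unop_op]
      ring
  map_zero' := by ext <;> simp
  map_add' x y := by
    ext
    · simp
    · simp only [snd_add, map_add, snd_inl, snd_inr, zero_add]
      ring

@[simp] lemma fst_scaleMap (f : S →+* T) (c : T) (x : DualNumber S) : (scaleMap f c x).fst = f x.fst := by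
  simp [scaleMap]

@[simp] lemma snd_scaleMap (f : S →+* T) (c : T) (x : DualNumber S) : (scaleMap f c x).snd = c * f x.snd := by
  simp [scaleMap]

/-- functoriality of dual numbers. -/
def mapR (f : S →+* T) : DualNumber S →+* DualNumber T := scaleMap f 1

@[simp] lemma fst_mapR (f : S →+* T) (x : DualNumber S) : (mapR f x).fst = f x.fst := fst_scaleMap f 1 x

@[simp] lemma snd_mapR (f : S →+* T) (x : DualNumber S) : (mapR f x).snd = f x.snd := by
  rw [mapR, snd_scaleMap, one_mul]

lemma fstR_comp_mapR (f : S →+* T) : (fstR T).comp (mapR f) = f.comp (fstR S) :=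
  RingHom.ext fun x => by simp

lemma mapR_comp_inlR (f : S →+* T) : (mapR f).comp (inlR S) = (inlR T).comp f :=
  RingHom.ext fun x => by ext <;> simp

lemma mapR_comp (g : T →+* U) (f : S →+* T) : (mapR g).comp (mapR f) = mapR (g.comp f) :=
  RingHom.ext fun x => by ext <;> simp

lemma fstR_comp_scaleMap (f : S →+* T) (c : T) : (fstR T).comp (scaleMap f c) = f.comp (fstR S) :=
  RingHom.ext fun x => by simp

lemma ker_nilpotent_of {A : Type u} {B : Type v} [CommRing A] [CommRing B] (f : A →+* B)
    (h : ∀ x y, f x = 0 → f y = 0 → x * y = 0) : IsNilpotent (RingHom.ker f) := by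
  refine ⟨2, ?_⟩
  rw [Ideal.zero_eq_bot, eq_bot_iff, pow_two, Ideal.mul_le]
  intro x hx y hy
  exact Ideal.mem_bot.mpr (h x y hx hy)

lemma ker_fstR_nilpotent : IsNilpotent (RingHom.ker (fstR S)) := by
  refine ker_nilpotent_of _ fun x y hx hy => ?_
  have hx : x.fst = 0 := hx
  have hy : y.fst = 0 := hy
  ext
  · simp [hx]
  · simp [hx, hy]

section Etale

variable {B : Type x} {E : Type v} [CommRing B] [CommRing E] [Algebra B E]

/-- Uniqueness of lifts to dual numbers along a formally unramified map. -/
theorem dual_ext [Algebra.FormallyUnramified B E] {σ σ' : E →+* DualNumber S}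
    (h : (fstR S).comp σ = (fstR S).comp σ') (hB : σ.comp (algebraMap B E) = σ'.comp (algebraMap B E)) :
    σ = σ' := by
  let : Algebra B (DualNumber S) := (σ.comp (algebraMap B E)).toAlgebra
  let s : E →ₐ[B] DualNumber S := { σ with commutes' := fun b => rfl }
  let s' : E →ₐ[B] DualNumber S := { σ' with commutes' := fun b => (RingHom.congr_fun hB b).symm }
  have : s = s' := Algebra.FormallyUnramified.ext' (fstR S) ker_fstR_nilpotent s s'
    (fun x => RingHom.congr_fun h x)
  exact congrArg (fun f : E →ₐ[B] DualNumber S => (f : E →+* DualNumber S)) this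

/-- Existence of lifts to dual numbers along a formally smooth map. -/
theorem exists_dual_lift [Algebra.FormallySmooth B E] (φ : E →+* S) (τ : B →+* DualNumber S)
    (h : (fstR S).comp τ = φ.comp (algebraMap B E)) :
    ∃ σ : E →+* DualNumber S, (fstR S).comp σ = φ ∧ σ.comp (algebraMap B E) = τ := by
  let : Algebra B (DualNumber S) := τ.toAlgebra
  let : Algebra B S := ((fstR S).comp τ).toAlgebra
  let g : DualNumber S →ₐ[B] S := { fstR S with commutes' := fun b => rfl }
  let f : E →ₐ[B] S := { φ with commutes' := fun b => (RingHom.congr_fun h b).symm }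
  refine ⟨(Algebra.FormallySmooth.liftOfSurjective f g fstR_surjective ker_fstR_nilpotent : E →ₐ[B] DualNumber S),
    ?_, ?_⟩
  · ext x
    exact Algebra.FormallySmooth.liftOfSurjective_apply f g fstR_surjective ker_fstR_nilpotent x
  · ext1 b
    exact AlgHom.commutes _ b

end Etale

end Groth.Agent.Sga7.H749.DualLift
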