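import Groth.Agent.Sga3B.BcPts
import Groth.Agent.Sga7.H749.DualLift

/-!
# Points with values in algebras

`SpecH b = Spec B` over `Spec R` for a ring homomorphism `b : R →+* B`; evaluation of functions at points; points
with values in dual numbers.
-/

set_option autoImplicit false
universe u

open CategoryTheory MonoidalCategory CartesianMonoidalCategory MonObj GrpObj AlgebraicGeometry Limits

noncomputable section

namespace Groth.Agent.Sga7.H749.Pts

open Groth.Agent.Sga7.H749.DualLift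

section points

variable {R : Type u} [CommRing R] {B C D : Type u} [CommRing B] [CommRing C] [CommRing D]

/-- `Spec B` over `Spec R` -/
abbrev SpecH (b : R →+* B) : Over (Spec (CommRingCat.of R)) := Over.mk (Spec.map (CommRingCat.ofHom b))

/-- the morphism of spectra given by a ring homomorphism. -/
def pmap (φ : B →+* C) {b : R →+* B} {c : R →+* C} (h : φ.comp b = c) : SpecH c ⟶ SpecH b :=
  Over.homMk (Spec.map (CommRingCat.ofHom φ)) (by
    subst h
    change Spec.map _ ≫ Spec.map _ = Spec.map _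
    rw [← Spec.map_comp, ← CommRingCat.ofHom_comp])

@[simp] lemma pmap_left (φ : B →+* C) {b : R →+* B} {c : R →+* C} (h : φ.comp b = c) :
    (pmap φ h).left = Spec.map (CommRingCat.ofHom φ) := rfl

lemma pmap_comp (ψ : C →+* D) (φ : B →+* C) {b : R →+* B} {c : R →+* C} {d : R →+* D} (h : φ.comp b = c)
    (h' : ψ.comp c = d) : pmap ψ h' ≫ pmap φ h = pmap (ψ.comp φ) (by rw [RingHom.comp_assoc, h, h']) := by
  ext1
  change Spec.map _ ≫ Spec.map _ = Spec.map _
  rw [← Spec.map_comp, ← CommRingCat.ofHom_comp]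

lemma pmap_congr {φ φ' : B →+* C} (e : φ = φ') {b : R →+* B} {c : R →+* C} (h : φ.comp b = c)
    (h' : φ'.comp b = c) : pmap φ h = pmap φ' h' := by subst e; rfl

lemma pmap_id {b : R →+* B} (h : (RingHom.id B).comp b = b) : pmap (RingHom.id B) h = 𝟙 _ := by
  ext1
  exact Spec.map_id _

end points

section ev

variable {X : Scheme.{u}} {V : X.Opens} {B C : Type u} [CommRing B] [CommRing C]

/-- the value of a function at a point. -/
def ev (x : Spec (CommRingCat.of C) ⟶ X) (hx : ⊤ ≤ x ⁻¹ᵁ V) : Γ(X, V) →+* C :=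
  (Scheme.ΓSpecIso (CommRingCat.of C)).hom.hom.comp (x.appLE V ⊤ hx).hom

lemma ev_comp (φ : B →+* C) (x : Spec (CommRingCat.of B) ⟶ X) (hx : ⊤ ≤ x ⁻¹ᵁ V)
    (hx' : ⊤ ≤ (Spec.map (CommRingCat.ofHom φ) ≫ x) ⁻¹ᵁ V) (f : Γ(X, V)) :
    ev (Spec.map (CommRingCat.ofHom φ) ≫ x) hx' f = φ (ev x hx f) := by
  have h1 : (Spec.map (CommRingCat.ofHom φ) ≫ x).appLE V ⊤ hx' =
      x.appLE V ⊤ hx ≫ (Spec.map (CommRingCat.ofHom φ)).appTop := by
    have h0 : (Spec.map (CommRingCat.ofHom φ)).appTop = (Spec.map (CommRingCat.ofHom φ)).appLE ⊤ ⊤ le_rfl :=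
      (Scheme.Hom.appLE_eq_app _).symm
    rw [h0, Scheme.Hom.appLE_comp_appLE]
  have h2 := Scheme.ΓSpecIso_naturality (CommRingCat.ofHom φ)
  have h3 : (Spec.map (CommRingCat.ofHom φ) ≫ x).appLE V ⊤ hx' ≫ (Scheme.ΓSpecIso (CommRingCat.of C)).hom =
      x.appLE V ⊤ hx ≫ (Scheme.ΓSpecIso (CommRingCat.of B)).hom ≫ CommRingCat.ofHom φ := by
    rw [h1, Category.assoc]
    exact congrArg (x.appLE V ⊤ hx ≫ ·) h2
  exact congr($h3 f)

/-- a point with values in an affine open is determined by the values of the functions. -/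
lemma ext_of_ev (hV : IsAffineOpen V) {x y : Spec (CommRingCat.of C) ⟶ X} (hx : ⊤ ≤ x ⁻¹ᵁ V)
    (hy : ⊤ ≤ y ⁻¹ᵁ V) (h : ∀ f, ev x hx f = ev y hy f) : x = y := by
  have h1 : x.appLE V ⊤ hx = y.appLE V ⊤ hy := by
    rw [← cancel_mono (Scheme.ΓSpecIso (CommRingCat.of C)).hom]
    ext f
    exact h f
  have hT := isAffineOpen_top (Spec (CommRingCat.of C))
  have h2 := hV.SpecMap_appLE_fromSpec x hT hx
  have h3 := hV.SpecMap_appLE_fromSpec y hT hy
  rw [h1, h3] at h2
  have : IsIso hT.fromSpec := by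
    rw [IsAffineOpen.fromSpec_top]
    infer_instance
  exact ((cancel_epi hT.fromSpec).mp h2).symm

/-- the range condition can be checked modulo a nilpotent ideal. -/
lemma le_preimage_of_fst (x : Spec (CommRingCat.of (DualNumber B)) ⟶ X)
    (hx : ⊤ ≤ (Spec.map (CommRingCat.ofHom (fstR B)) ≫ x) ⁻¹ᵁ V) : ⊤ ≤ x ⁻¹ᵁ V := by
  have hs : Function.Surjective (Spec.map (CommRingCat.ofHom (fstR B))) := by
    intro p
    have h1 : RingHom.ker (fstR B) ≤ p.asIdeal := by
      obtain ⟨n, hn⟩ := ker_fstR_nilpotent (S := B)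
      have h2 : (RingHom.ker (fstR B)) ^ n ≤ p.asIdeal := by rw [hn]; exact bot_le
      exact p.isPrime.le_of_pow_le h2
    have h3 : p ∈ Set.range (PrimeSpectrum.comap (fstR B)) := by
      rw [range_comap_of_surjective _ _ fstR_surjective]
      exact h1
    exact h3
  intro p _
  obtain ⟨p', rfl⟩ := hs p
  exact hx (Set.mem_univ p')

end ev

end Groth.Agent.Sga7.H749.Pts
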