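import Groth.Prelude.Def_SGA7IX
import Groth.Agent.Sga7.H749.Pts
import Mathlib.Algebra.Category.Ring.Constructions
import Mathlib.AlgebraicGeometry.Pullbacks
import Mathlib.RingTheory.DiscreteValuationRing.Basic

/-!
# Points of a Néron model with values in smooth algebras
-/

set_option autoImplicit false
universe u

open CategoryTheory CategoryTheory.Limits AlgebraicGeometry

noncomputable section

namespace Groth.Agent.Sga7.H749.NeronPt

open Groth.Agent.Sga7.H749.Pts

/-- `Spec` of an algebra map -/
abbrev sp (R R' : Type u) [CommRing R] [CommRing R'] [Algebra R R'] :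
    Spec (CommRingCat.of R') ⟶ Spec (CommRingCat.of R) :=
  Spec.map (CommRingCat.ofHom (algebraMap R R'))

/-- The Néron property for arbitrary cartesian squares. -/
theorem exists_ext {R K : Type u} [CommRing R] [Field K] [Algebra R K] {N : Over (Spec (CommRingCat.of R))}
    (hN : SGA7.IsNeron R K N)
    {Y YK : Scheme.{u}} {y : Y ⟶ Spec (CommRingCat.of R)} [Smooth y] {jY : YK ⟶ Y}
    {yK : YK ⟶ Spec (CommRingCat.of K)} (hY : IsPullback jY yK y (sp R K))
    (f : YK ⟶ N.left) (hf : f ≫ N.hom = yK ≫ sp R K) :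
    ∃ g : Y ⟶ N.left, g ≫ N.hom = y ∧ jY ≫ g = f := by
  obtain ⟨-, -, -, h⟩ := hN
  obtain ⟨-, hsurj⟩ := h (Over.mk y) (by assumption)
  let F : (SGA7.genFib R K).obj (Over.mk y) ⟶ (SGA7.genFib R K).obj N :=
    Over.homMk (pullback.lift (hY.isoPullback.inv ≫ f) (hY.isoPullback.inv ≫ yK) (by
      rw [Category.assoc, Category.assoc, hf])) (by
      refine (pullback.lift_snd _ _ _).trans ?_
      exact hY.isoPullback_inv_snd)
  obtain ⟨g, hg⟩ := hsurj F
  refine ⟨g.left, Over.w g, ?_⟩
  have h1 : ((SGA7.genFib R K).map g).left ≫ pullback.fst N.hom (sp R K) =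
    pullback.fst y (sp R K) ≫ g.left := pullback.lift_fst _ _ _
  have h2 : ((SGA7.genFib R K).map g).left = F.left := congrArg (fun t => t.left) hg
  have h3 : F.left ≫ pullback.fst N.hom (sp R K) = hY.isoPullback.inv ≫ f :=
    pullback.lift_fst _ _ _
  rw [h2, h3] at h1
  rw [← hY.isoPullback_hom_fst, Category.assoc, ← h1, Iso.hom_inv_id_assoc]

section dvr

variable {R : Type u} [CommRing R] [IsDomain R] [IsDiscreteValuationRing R]

/-- a nonzero element of a discrete valuation ring divides a power of any nonunit. -/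
lemma exists_dvd_pow {w : R} (hwu : ¬ IsUnit w) {r : R} (hr : r ≠ 0) : ∃ n : ℕ, r ∣ w ^ n := by
  obtain ⟨π, hπ⟩ := IsDiscreteValuationRing.exists_irreducible R
  obtain ⟨n, u, rfl⟩ := IsDiscreteValuationRing.eq_unit_mul_pow_irreducible hr hπ
  have h1 : w ∈ IsLocalRing.maximalIdeal R := hwu
  rw [hπ.maximalIdeal_eq, Ideal.mem_span_singleton] at h1
  refine ⟨n, ?_⟩
  rw [Units.isUnit u |>.mul_left_dvd]
  exact pow_dvd_pow_of_dvd h1 n

variable {E : Type u} [CommRing E] [Algebra R E] (w : R) (hwu : ¬ IsUnit w)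

include hwu in
lemma isUnit_algebraMap_away {r : R} (hr : r ≠ 0) :
    IsUnit (algebraMap E (Localization.Away (algebraMap R E w)) (algebraMap R E r)) := by
  obtain ⟨n, c, hc⟩ := exists_dvd_pow hwu hr
  have h1 : IsUnit (algebraMap E (Localization.Away (algebraMap R E w)) (algebraMap R E (w ^ n))) := by
    rw [map_pow, map_pow]
    exact (IsLocalization.Away.algebraMap_isUnit (algebraMap R E w)).pow n
  rw [hc, map_mul, map_mul] at h1
  exact isUnit_of_mul_isUnit_left h1

include hwu in
lemma isLocalization_away (hw0 : w ≠ 0) : IsLocalization ((nonZeroDivisors R).map (algebraMap R E))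
    (Localization.Away (algebraMap R E w)) where
  map_units := by
    rintro ⟨_, r, hr, rfl⟩
    exact isUnit_algebraMap_away w hwu (nonZeroDivisors.ne_zero hr)
  surj z := by
    obtain ⟨n, a, ha⟩ := IsLocalization.Away.surj (algebraMap R E w) z
    refine ⟨⟨a, ⟨algebraMap R E (w ^ n), ⟨w ^ n, mem_nonZeroDivisors_of_ne_zero (pow_ne_zero n hw0), rfl⟩⟩⟩, ?_⟩
    dsimp only
    rw [← ha, map_pow, map_pow]
  exists_of_eq {x y} h := by
    obtain ⟨n, hn⟩ := IsLocalization.Away.exists_of_eq (algebraMap R E w) h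
    refine ⟨⟨algebraMap R E (w ^ n), ⟨w ^ n, mem_nonZeroDivisors_of_ne_zero (pow_ne_zero n hw0), rfl⟩⟩, ?_⟩
    dsimp only
    rw [map_pow]
    exact hn

end dvr

/-- Points with values in the localization extend. -/
theorem exists_pt_ext {R K : Type u} [CommRing R] [IsDomain R] [IsDiscreteValuationRing R] [Field K] [Algebra R K]
    [IsFractionRing R K] {N : Over (Spec (CommRingCat.of R))} (hN : SGA7.IsNeron R K N) (w : R) (hw0 : w ≠ 0)
    (hwu : ¬ IsUnit w) (E : Type u) [CommRing E] [Algebra R E] [Algebra.Smooth R E]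
    (x : SpecH ((algebraMap E (Localization.Away (algebraMap R E w))).comp (algebraMap R E)) ⟶ N) :
    ∃ y : SpecH (algebraMap R E) ⟶ N,
      pmap (algebraMap E (Localization.Away (algebraMap R E w))) rfl ≫ y = x := by
  let L := Localization.Away (algebraMap R E w)
  let k : K →+* L := IsLocalization.lift (M := nonZeroDivisors R) (S := K)
    (g := (algebraMap E L).comp (algebraMap R E))
    (fun r => isUnit_algebraMap_away w hwu (nonZeroDivisors.ne_zero r.2))
  have hk : k.comp (algebraMap R K) = (algebraMap E L).comp (algebraMap R E) := IsLocalization.lift_comp _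
  have := isLocalization_away (E := E) w hwu hw0
  have hpo := CommRingCat.isPushout_of_isLocalization (algebraMap R E) k hk (nonZeroDivisors R)
  have hpb : IsPullback (Spec.map (CommRingCat.ofHom (algebraMap E L))) (Spec.map (CommRingCat.ofHom k))
      (Spec.map (CommRingCat.ofHom (algebraMap R E))) (sp R K) :=
    isPullback_SpecMap_of_isPushout _ _ _ _ hpo
  have hsm : Smooth (Spec.map (CommRingCat.ofHom (algebraMap R E))) := by
    rw [HasRingHomProperty.Spec_iff (P := @Smooth)]
    change (algebraMap R E).Smooth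
    rw [RingHom.smooth_algebraMap]
    infer_instance
  obtain ⟨g, hg1, hg2⟩ := exists_ext hN hpb x.left (by
    rw [← Spec.map_comp, ← CommRingCat.ofHom_comp, hk]
    exact Over.w x)
  refine ⟨Over.homMk g hg1, ?_⟩
  ext1
  exact hg2

end Groth.Agent.Sga7.H749.NeronPt
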