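import Groth.Agent.Sga7.H749.GeomPts
import Groth.Agent.Sga7.H749.NeronPt
import Mathlib.AlgebraicGeometry.Geometrically.Integral
import Mathlib.RingTheory.Localization.Integral
import Mathlib.RingTheory.IntegralClosure.IntegrallyClosed

/-!
# S4069 from the existence of Néron models

`ExtProp`: finite extensions of a discrete valuation ring with large residue field and ramification;
`FullNeron`: existence of Néron models after a finite extension.
-/

set_option autoImplicit false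
universe u

open CategoryTheory MonoidalCategory CartesianMonoidalCategory MonObj GrpObj AlgebraicGeometry Limits

noncomputable section

namespace Groth.Agent.Sga7.H749.Final

open Groth.Agent.Sga7.H749.Core Groth.Agent.Sga7.H749.GaFamOf Groth.Agent.Sga7.H749.GeomPts
  Groth.Agent.Sga7.H749.Pts Groth.Agent.Sga7.H749.StabCore Groth.Agent.Sga7.H749.Contra Groth.Agent.Sga3B

/-- Finite extensions of a discrete valuation ring: large residue field, then ramified. -/
def ExtProp : Prop :=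
  ∀ (R K : Type u) [CommRing R] [IsDomain R] [IsDiscreteValuationRing R] [Field K] [Algebra R K]
    [IsFractionRing R K] (κ : Type u) [Field κ] (r : R →+* κ) (_ : RingHom.ker r = IsLocalRing.maximalIdeal R)
    (_ : ∀ x : κ, ∃ p : Polynomial R, p.Monic ∧ p.eval₂ r x = 0) (T : Finset κ),
    ∃ (R₁ : Type u) (_ : CommRing R₁) (_ : IsLocalRing R₁) (φ₁ : R₁ →+* κ) (_ : IsLocalHom φ₁) (i : R →+* R₁)
      (ϖ : R₁), IsLocalRing.maximalIdeal R₁ = Ideal.span {ϖ} ∧ φ₁.comp i = r ∧ (∀ t ∈ T, t ∈ φ₁.range) ∧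
      ∀ N₀ : ℕ, ∃ n ≥ N₀, ∃ (K₂ : Type u) (_ : Field K₂) (_ : Algebra K K₂) (_ : Algebra R K₂)
        (_ : IsScalarTower R K K₂) (_ : FiniteDimensional K K₂) (_ : Algebra.IsSeparable K K₂)
        (_ : IsDiscreteValuationRing (integralClosure R K₂)) (i₂ : R₁ →+* integralClosure R K₂)
        (w : integralClosure R K₂), w ∈ nonZeroDivisors (integralClosure R K₂) ∧ ¬ IsUnit w ∧ w ^ n = i₂ ϖ ∧
        i₂.comp i = algebraMap R (integralClosure R K₂)

/-- Existence of Néron models after a finite extension. -/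
def FullNeron : Prop :=
  ∀ (R K : Type u) [CommRing R] [IsDomain R] [IsDiscreteValuationRing R] [Field K] [Algebra R K]
    [IsFractionRing R K] (A : Over (Spec (CommRingCat.of K))) [GrpObj A] [IsProper A.hom]
    [GeometricallyIntegral A.hom],
    ∃ (K₁ : Type u) (_ : Field K₁) (_ : Algebra K K₁) (_ : FiniteDimensional K K₁) (_ : Algebra.IsSeparable K K₁),
      ∀ (R₁ : Type u) [CommRing R₁] [Algebra R R₁] [Algebra R₁ K₁] [Algebra R K₁] [IsScalarTower R K K₁]
        [IsScalarTower R R₁ K₁] [IsIntegralClosure R₁ R K₁],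
        ∃ (_ : IsDomain R₁) (_ : IsDiscreteValuationRing R₁) (N : Over (Spec (CommRingCat.of R₁))) (_ : GrpObj N)
          (e : (SGA7.genFib R₁ K₁).obj N ≅ Red.bc (Spec.map (CommRingCat.ofHom (algebraMap K K₁))) A),
          IsMonHom e.hom ∧ SGA7.IsNeron R₁ K₁ N

/-- The homomorphism to a Néron model extending a homomorphism of generic fibres. -/
theorem exists_hom_of_isNeron (R K : Type u) [CommRing R] [Field K] [Algebra R K]
    (G N : Over (Spec (CommRingCat.of R))) [GrpObj G] [GrpObj N] [Smooth G.hom] (hN : SGA7.IsNeron R K N)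
    (e : (SGA7.genFib R K).obj G ⟶ (SGA7.genFib R K).obj N) [he : IsMonHom e] :
    ∃ u : G ⟶ N, IsMonHom u ∧ (SGA7.genFib R K).map u = e := by
  obtain ⟨u, hu⟩ := (hN.2.2.2 G inferInstance).2 e
  refine ⟨u, ?_, hu⟩
  apply Groth.Agent.Sga3B.Pts.isMonHom_of_universal
  have hsm : Smooth (G ⊗ G).hom := by dsimp; infer_instance
  apply (hN.2.2.2 (G ⊗ G) hsm).1
  dsimp only at hu ⊢
  rw [Functor.map_mul, Functor.map_comp, Functor.map_comp, Functor.map_comp, Functor.map_mul, hu, mul_comp]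

/-- The comparison of the generic fibre of `N_{R₃}` with a Néron model, for a tower of rings. -/
theorem exists_u {R K K₂ K₃ R₃ : Type u} [CommRing R] [Field K] [Algebra R K] [Field K₂] [Field K₃]
    [CommRing R₃] [Algebra K K₂] [Algebra K₂ K₃] [Algebra R R₃] [Algebra R₃ K₃]
    (hcomp : (algebraMap R₃ K₃).comp (algebraMap R R₃) =
      ((algebraMap K₂ K₃).comp (algebraMap K K₂)).comp (algebraMap R K))
    (N : Over (Spec (CommRingCat.of R))) [GrpObj N] [Smooth N.hom] (N₃ : Over (Spec (CommRingCat.of R₃)))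
    [GrpObj N₃] (hN₃ : SGA7.IsNeron R₃ K₃ N₃)
    (e : (SGA7.genFib R₃ K₃).obj N₃ ≅ Red.bc (Spec.map (CommRingCat.ofHom (algebraMap K₂ K₃)))
      (Red.bc (Spec.map (CommRingCat.ofHom (algebraMap K K₂))) ((SGA7.genFib R K).obj N)))
    (he : IsMonHom e.hom) :
    ∃ u : Red.bc (Spec.map (CommRingCat.ofHom (algebraMap R R₃))) N ⟶ N₃, IsMonHom u ∧
      IsIso ((SGA7.genFib R₃ K₃).map u) := by
  let s3 := Spec.map (CommRingCat.ofHom (algebraMap R₃ K₃))
  let s0 := Spec.map (CommRingCat.ofHom (algebraMap R R₃))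
  let s23 := Spec.map (CommRingCat.ofHom (algebraMap K₂ K₃))
  let s02 := Spec.map (CommRingCat.ofHom (algebraMap K K₂))
  let sK := Spec.map (CommRingCat.ofHom (algebraMap R K))
  have h1 : s3 ≫ s0 = (s23 ≫ s02) ≫ sK := by
    change Spec.map _ ≫ Spec.map _ = (Spec.map _ ≫ Spec.map _) ≫ Spec.map _
    rw [← Spec.map_comp, ← Spec.map_comp, ← Spec.map_comp, ← CommRingCat.ofHom_comp, ← CommRingCat.ofHom_comp,
      ← CommRingCat.ofHom_comp, hcomp]
  let e' : Grp.mk ((SGA7.genFib R₃ K₃).obj (Red.bc s0 N)) ≅ Grp.mk (Red.bc s23 (Red.bc s02 (Red.bc sK N))) :=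
    (BcIso.bcCompIso s3 s0 N).symm ≪≫ BcIso.bcCongrIso h1 N ≪≫ BcIso.bcCompIso (s23 ≫ s02) sK N ≪≫
      BcIso.bcCompIso s23 s02 (Red.bc sK N)
  let f : (SGA7.genFib R₃ K₃).obj (Red.bc s0 N) ⟶ (SGA7.genFib R₃ K₃).obj N₃ := e'.hom.hom.hom ≫ e.inv
  have hf : IsMonHom f := by
    have h2 : IsMonHom e'.hom.hom.hom := e'.hom.hom.isMonHom_hom
    have h3 : IsMonHom e.inv := inferInstance
    infer_instance
  have hfi : IsIso f := by
    have h2 : IsIso e'.hom.hom.hom :=
      ⟨e'.inv.hom.hom, congrArg (fun z => z.hom.hom) e'.hom_inv_id, congrArg (fun z => z.hom.hom) e'.inv_hom_id⟩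
    infer_instance
  have : Smooth (Red.bc s0 N).hom := by
    change Smooth (pullback.snd _ _)
    infer_instance
  obtain ⟨u, hu, hu'⟩ := exists_hom_of_isNeron R₃ K₃ (Red.bc s0 N) N₃ hN₃ f
  exact ⟨u, hu, by rw [hu']; exact hfi⟩

/-- The stability theorem with an explicit structure map. -/
theorem stab_core' {R : Type u} [CommRing R] {N : Over (Spec (CommRingCat.of R))} [GrpObj N] {κ : Type u} [Field κ]
    {r : R →+* κ} (J : GaFam N r) [Smooth N.hom] (V : N.left.Opens) (hVa : IsAffineOpen V) (hV : UnitIn N V) :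
    ∃ T : Finset κ, ∀ (R₁ : Type u) [CommRing R₁] [IsLocalRing R₁] (φ₁ : R₁ →+* κ) [IsLocalHom φ₁]
      (i : R →+* R₁) (ϖ : R₁), IsLocalRing.maximalIdeal R₁ = Ideal.span {ϖ} → φ₁.comp i = r →
      (∀ t ∈ T, t ∈ φ₁.range) →
      ∃ N₀ : ℕ, ∀ n ≥ N₀, ∀ (R₂ : Type u) [CommRing R₂] (i₂ : R₁ →+* R₂) (w : R₂),
        w ∈ nonZeroDivisors R₂ → ¬ IsUnit w → w ^ n = i₂ ϖ → ∀ (j : R →+* R₂), i₂.comp i = j →
        ∀ (N₂ : Over (Spec (CommRingCat.of R₂))) [GrpObj N₂]
          (u : Red.bc (Spec.map (CommRingCat.ofHom j)) N ⟶ N₂) [IsMonHom u] [IsOpenImmersion u.left],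
          (∀ (E : Type u) [CommRing E] [Algebra R₂ E] [Algebra.Smooth R₂ E]
            (x : SpecH ((algebraMap E (Localization.Away (algebraMap R₂ E w))).comp (algebraMap R₂ E)) ⟶ N₂),
            ∃ y : SpecH (algebraMap R₂ E) ⟶ N₂,
              pmap (algebraMap E (Localization.Away (algebraMap R₂ E w))) rfl ≫ y = x) → False := by
  obtain ⟨T, hT⟩ := stab_core J V hVa hV
  refine ⟨T, ?_⟩
  intro R₁ _ _ φ₁ _ i ϖ h1 h2 h3
  obtain ⟨N₀, hN₀⟩ := hT R₁ φ₁ i ϖ h1 h2 h3
  refine ⟨N₀, ?_⟩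
  intro n hn R₂ _ i₂ w hw hwu hwn j hj N₂ _ u _ _ hExt
  subst hj
  exact hN₀ n hn R₂ i₂ w hw hwu hwn N₂ u hExt

/-- The hypothesis of S4069. -/
def Hyp (R K : Type u) [CommRing R] [IsDomain R] [Field K] [Algebra R K]
    (N : Over (Spec (CommRingCat.of R))) [GrpObj N] : Prop :=
  ∀ (K' : Type u) [Field K'] [Algebra K K'] [Algebra R K'] [IsScalarTower R K K']
    [FiniteDimensional K K'] [Algebra.IsSeparable K K']
    (N' : Over (Spec (CommRingCat.of ↥(integralClosure R K')))) [GrpObj N'],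
    SGA7.IsNeron ↥(integralClosure R K') K' N' →
    ∀ (u : Red.bc (Spec.map (CommRingCat.ofHom (algebraMap R ↥(integralClosure R K')))) N ⟶ N')
      [IsMonHom u], IsIso ((SGA7.genFib ↥(integralClosure R K') K').map u) → IsOpenImmersion u.left

/-- One extension of fields: the contradiction. -/
theorem one_ext (hF : FullNeron.{u}) (R K : Type u) [CommRing R] [IsDomain R] [IsDiscreteValuationRing R] [Field K]
    [Algebra R K] [IsFractionRing R K]
    (N : Over (Spec (CommRingCat.of R))) [GrpObj N] [Smooth N.hom]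
    [IsProper ((SGA7.genFib R K).obj N).hom] [GeometricallyIntegral ((SGA7.genFib R K).obj N).hom]
    (h : Hyp R K N) (R₁ : Type u) [CommRing R₁] (i : R →+* R₁) (ϖ : R₁) (n : ℕ)
    (K₂ : Type u) [Field K₂] [Algebra K K₂] [Algebra R K₂]
    [IsScalarTower R K K₂] [FiniteDimensional K K₂] [Algebra.IsSeparable K K₂]
    [IsDiscreteValuationRing (integralClosure R K₂)] (i₂ : R₁ →+* integralClosure R K₂)
    (w : integralClosure R K₂) (hw : w ∈ nonZeroDivisors (integralClosure R K₂)) (hwu : ¬ IsUnit w)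
    (hwn : w ^ n = i₂ ϖ) (hi₂ : i₂.comp i = algebraMap R (integralClosure R K₂)) :
    ∃ (R₃ : Type u) (_ : CommRing R₃) (i₃ : R₁ →+* R₃) (w₃ : R₃) (j : R →+* R₃)
      (N₃ : Over (Spec (CommRingCat.of R₃))) (_ : GrpObj N₃)
      (u : Red.bc (Spec.map (CommRingCat.ofHom j)) N ⟶ N₃), w₃ ∈ nonZeroDivisors R₃ ∧ ¬ IsUnit w₃ ∧
        w₃ ^ n = i₃ ϖ ∧ i₃.comp i = j ∧ IsMonHom u ∧ IsOpenImmersion u.left ∧
        ∀ (E : Type u) [CommRing E] [Algebra R₃ E] [Algebra.Smooth R₃ E]
            (x : SpecH ((algebraMap E (Localization.Away (algebraMap R₃ E w₃))).comp (algebraMap R₃ E)) ⟶ N₃),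
            ∃ y : SpecH (algebraMap R₃ E) ⟶ N₃,
              pmap (algebraMap E (Localization.Away (algebraMap R₃ E w₃))) rfl ≫ y = x := by
  let R₂ := integralClosure R K₂
  have hfr₂ : IsFractionRing R₂ K₂ := integralClosure.isFractionRing_of_finite_extension K K₂
  let A₂ : Over (Spec (CommRingCat.of K₂)) :=
    Red.bc (Spec.map (CommRingCat.ofHom (algebraMap K K₂))) ((SGA7.genFib R K).obj N)
  have hA1 : IsProper A₂.hom := by
    change IsProper (pullback.snd _ _)
    infer_instance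
  have hA2 : GeometricallyIntegral A₂.hom := by
    change GeometricallyIntegral (pullback.snd _ _)
    infer_instance
  obtain ⟨K₃, _, _, _, _, hK₃⟩ := hF R₂ K₂ A₂
  let _ : Algebra K K₃ := ((algebraMap K₂ K₃).comp (algebraMap K K₂)).toAlgebra
  have : IsScalarTower K K₂ K₃ := IsScalarTower.of_algebraMap_eq' rfl
  have : FiniteDimensional K K₃ := FiniteDimensional.trans K K₂ K₃
  have : Algebra.IsSeparable K K₃ := Algebra.IsSeparable.trans K K₂ K₃
  let _ : Algebra R K₃ := ((algebraMap K K₃).comp (algebraMap R K)).toAlgebra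
  have : IsScalarTower R K K₃ := IsScalarTower.of_algebraMap_eq' rfl
  have hRK₂K₃ : IsScalarTower R K₂ K₃ := by
    refine IsScalarTower.of_algebraMap_eq fun x => ?_
    rw [IsScalarTower.algebraMap_apply R K K₂, IsScalarTower.algebraMap_apply R K K₃,
      IsScalarTower.algebraMap_apply K K₂ K₃]
  let R₃ := integralClosure R K₃
  -- the structure of `R₃` as an algebra over `R₂`
  have hmem : ∀ x : R₂, algebraMap K₂ K₃ (x : K₂) ∈ R₃ := fun x =>
    IsIntegral.map (IsScalarTower.toAlgHom R K₂ K₃) x.2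
  let _ : Algebra R₂ R₃ :=
    (((algebraMap K₂ K₃).comp (algebraMap R₂ K₂)).codRestrict R₃ (fun x => hmem x)).toAlgebra
  have ht1 : IsScalarTower R₂ K₂ K₃ := inferInstance
  have ht2 : IsScalarTower R₂ R₃ K₃ := IsScalarTower.of_algebraMap_eq' rfl
  have ht3 : IsScalarTower R R₂ K₃ := by
    refine IsScalarTower.of_algebraMap_eq fun x => ?_
    rw [IsScalarTower.algebraMap_apply R₂ K₂ K₃, ← IsScalarTower.algebraMap_apply R R₂ K₂,
      ← IsScalarTower.algebraMap_apply R K₂ K₃]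
  have ht4 : IsScalarTower R R₂ R₃ := by
    refine IsScalarTower.of_algebraMap_eq fun x => ?_
    apply Subtype.ext
    change algebraMap R K₃ x = algebraMap R₂ K₃ (algebraMap R R₂ x)
    rw [← IsScalarTower.algebraMap_apply R R₂ K₃]
  have hint : Algebra.IsIntegral R R₂ := inferInstance
  have hic : IsIntegralClosure R₃ R₂ K₃ := IsIntegralClosure.tower_top (R := R)
  obtain ⟨_, hdvr₃, N₃, _, e₃, he₃, hN₃⟩ := hK₃ R₃
  have hfr₃ : IsFractionRing R₃ K₃ := integralClosure.isFractionRing_of_finite_extension K K₃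
  have hinj : Function.Injective (algebraMap R₂ R₃) := by
    intro x y hxy
    have h1 : algebraMap R₂ K₃ x = algebraMap R₂ K₃ y := by
      rw [IsScalarTower.algebraMap_apply R₂ R₃ K₃, hxy, ← IsScalarTower.algebraMap_apply R₂ R₃ K₃]
    rw [IsScalarTower.algebraMap_apply R₂ K₂ K₃, IsScalarTower.algebraMap_apply R₂ K₂ K₃] at h1
    exact Subtype.ext ((algebraMap K₂ K₃).injective h1)
  have hloc : IsLocalHom (algebraMap R₂ R₃) := by
    refine RingHom.IsIntegral.isLocalHom ?_ hinj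
    have h1 : Algebra.IsIntegral R R₃ := inferInstance
    have h2 : Algebra.IsIntegral R₂ R₃ := Algebra.IsIntegral.tower_top R
    exact algebraMap_isIntegral_iff.mpr h2
  have hw0 : algebraMap R₂ R₃ w ≠ 0 := by
    rw [Ne, map_eq_zero_iff _ hinj]
    exact nonZeroDivisors.ne_zero hw
  have hwu₃ : ¬ IsUnit (algebraMap R₂ R₃ w) := fun h1 => hwu (isUnit_of_map_unit _ _ h1)
  have hcomp : (algebraMap R₃ K₃).comp (algebraMap R R₃) =
      ((algebraMap K₂ K₃).comp (algebraMap K K₂)).comp (algebraMap R K) := rfl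
  obtain ⟨u, hu, hui⟩ := exists_u hcomp N N₃ hN₃ e₃ he₃
  have hopen : IsOpenImmersion u.left := h K₃ N₃ hN₃ u hui
  refine ⟨R₃, inferInstance, (algebraMap R₂ R₃).comp i₂, algebraMap R₂ R₃ w, algebraMap R R₃, N₃, inferInstance, u,
    mem_nonZeroDivisors_of_ne_zero hw0, hwu₃, ?_, ?_, hu, hopen, ?_⟩
  · rw [← map_pow, hwn]
    rfl
  · rw [RingHom.comp_assoc, hi₂, ← IsScalarTower.algebraMap_eq]
  · intro E _ _ _ x
    exact NeronPt.exists_pt_ext hN₃ (algebraMap R₂ R₃ w) hw0 hwu₃ E x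

/-- The closed fibre case. -/
theorem closed_case (hE : ExtProp.{u}) (hF : FullNeron.{u}) (R K : Type u) [CommRing R] [IsDomain R]
    [IsDiscreteValuationRing R] [Field K] [Algebra R K] [IsFractionRing R K]
    (N : Over (Spec (CommRingCat.of R))) [GrpObj N] [Smooth N.hom]
    [IsProper ((SGA7.genFib R K).obj N).hom] [GeometricallyIntegral ((SGA7.genFib R K).obj N).hom]
    (h : Hyp R K N) (s : Spec (CommRingCat.of R)) (hs : s.asIdeal = IsLocalRing.maximalIdeal R) :
    SGA7.FibreUnipotentRankZero s N := by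
  intro j hj hcl
  have hmono : Mono j := by
    have : Mono j.left := inferInstance
    exact Over.mono_of_mono_left j
  obtain ⟨J⟩ := nonempty_gaFam (rOf s) (Red.geomPt s) (geomPt_eq s) j hj hmono
  obtain ⟨V, hVa, hV1, -⟩ := exists_isAffineOpen_mem_and_subset (X := N.left)
    (x := (η[N] : 𝟙_ _ ⟶ N).left (IsLocalRing.closedPoint R)) (U := ⊤) trivial
  have hV : UnitIn N V := unitIn_of_local V hV1
  obtain ⟨T, hT⟩ := stab_core' J V hVa hV
  have hmax : s.asIdeal.IsMaximal := by rw [hs]; infer_instance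
  obtain ⟨R₁, _, _, φ₁, _, i, ϖ, h1, h2, h3, h4⟩ := hE R K
    (AlgebraicClosure ((Spec (CommRingCat.of R)).residueField s)) (rOf s) ((ker_rOf s).trans hs)
    (fun x => exists_monic s x) T
  obtain ⟨N₀, hN₀⟩ := hT R₁ φ₁ i ϖ h1 h2 h3
  obtain ⟨n, hn, K₂, _, _, _, _, _, _, _, i₂, w, hw, hwu, hwn, hi₂⟩ := h4 N₀
  obtain ⟨R₃, _, i₃, w₃, j₃, N₃, _, u, hw₃, hwu₃, hwn₃, hi₃, hu, hou, hext⟩ :=
    one_ext hF R K N h R₁ i ϖ n K₂ i₂ w hw hwu hwn hi₂
  exact hN₀ n hn R₃ i₃ w₃ hw₃ hwu₃ hwn₃ j₃ hi₃ N₃ u hext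

/-- S4069 from `ExtProp` and `FullNeron`. -/
theorem main (hE : ExtProp.{u}) (hF : FullNeron.{u}) (R K : Type u) [CommRing R] [IsDomain R]
    [IsDiscreteValuationRing R] [Field K] [Algebra R K] [IsFractionRing R K]
    (N : Over (Spec (CommRingCat.of R))) [GrpObj N] (hN : SGA7.IsNeron R K N)
    [IsProper ((SGA7.genFib R K).obj N).hom] [GeometricallyIntegral ((SGA7.genFib R K).obj N).hom]
    (h : Hyp R K N) : SGA7.FibresUnipotentRankZero N := by
  intro s
  have hsm : Smooth N.hom := hN.1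
  by_cases hs : s.asIdeal = ⊥
  · exact generic (K := K) N inferInstance s hs
  · have hmax : s.asIdeal = IsLocalRing.maximalIdeal R :=
      IsLocalRing.eq_maximalIdeal (s.isPrime.isMaximal hs)
    exact closed_case hE hF R K N h s hmax

end Groth.Agent.Sga7.H749.Final
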