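import Groth.Agent.Sga7.H749.Contra
import Mathlib.AlgebraicGeometry.Morphisms.Smooth

/-!
# Points with values in an affine open
-/

set_option autoImplicit false
universe u

open CategoryTheory MonoidalCategory CartesianMonoidalCategory MonObj GrpObj AlgebraicGeometry Limits

noncomputable section

namespace Groth.Agent.Sga7.H749.AffPts

open Groth.Agent.Sga7.H749.DualLift Groth.Agent.Sga7.H749.Pts Groth.Agent.Sga7.H749.UStar
  Groth.Agent.Sga7.H749.Contra

variable {R : Type u} [CommRing R] {N : Over (Spec (CommRingCat.of R))} {V : N.left.Opens} (hV : IsAffineOpen V)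
  {B C : Type u} [CommRing B] [CommRing C]

/-- the structure of an `R`-algebra on the functions on an open subset. -/
def algS : R →+* Γ(N.left, V) := (Spec.preimage (R := CommRingCat.of R) (hV.fromSpec ≫ N.hom)).hom

lemma Spec_algS : Spec.map (CommRingCat.ofHom (algS hV)) = hV.fromSpec ≫ N.hom :=
  Spec.map_preimage (R := CommRingCat.of R) (hV.fromSpec ≫ N.hom)

lemma smooth_algS [Smooth N.hom] : (algS hV).Smooth := by
  have h1 : Smooth (Spec.map (CommRingCat.ofHom (algS hV))) := by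
    rw [Spec_algS]
    infer_instance
  exact (HasRingHomProperty.Spec_iff (P := @Smooth)).mp h1

/-- the point given by a ring homomorphism. -/
def ofHomPt (p : Γ(N.left, V) →+* B) {b : R →+* B} (h : p.comp (algS hV) = b) : SpecH b ⟶ N :=
  Over.homMk (Spec.map (CommRingCat.ofHom p) ≫ hV.fromSpec) (by
    subst h
    change (Spec.map _ ≫ hV.fromSpec) ≫ N.hom = Spec.map _
    rw [Category.assoc, ← Spec_algS, ← Spec.map_comp, ← CommRingCat.ofHom_comp])

@[simp] lemma ofHomPt_left (p : Γ(N.left, V) →+* B) {b : R →+* B} (h : p.comp (algS hV) = b) :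
    (ofHomPt hV p h).left = Spec.map (CommRingCat.ofHom p) ≫ hV.fromSpec := rfl

lemma pmap_ofHomPt (φ : B →+* C) (p : Γ(N.left, V) →+* B) {b : R →+* B} (h : p.comp (algS hV) = b)
    {c : R →+* C} (hc : φ.comp b = c) :
    pmap φ hc ≫ ofHomPt hV p h = ofHomPt hV (φ.comp p) (by rw [RingHom.comp_assoc, h, hc]) := by
  ext1
  change Spec.map _ ≫ Spec.map _ ≫ hV.fromSpec = Spec.map _ ≫ hV.fromSpec
  rw [← Category.assoc, ← Spec.map_comp, ← CommRingCat.ofHom_comp]

lemma spec_ev (x : Spec (CommRingCat.of C) ⟶ N.left) (hx : ⊤ ≤ x ⁻¹ᵁ V) :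
    Spec.map (CommRingCat.ofHom (ev x hx)) ≫ hV.fromSpec = x := by
  have hT := isAffineOpen_top (Spec (CommRingCat.of C))
  have h2 := hV.SpecMap_appLE_fromSpec x hT hx
  rw [IsAffineOpen.fromSpec_top, Scheme.isoSpec_Spec_inv] at h2
  have h1 : CommRingCat.ofHom (ev x hx) = x.appLE V ⊤ hx ≫ (Scheme.ΓSpecIso (CommRingCat.of C)).hom := rfl
  rw [h1, Spec.map_comp, Category.assoc, h2, ← Category.assoc, ← Spec.map_comp, Iso.inv_hom_id, Spec.map_id,
    Category.id_comp]

lemma ev_comp_algS {b : R →+* C} (x : SpecH b ⟶ N) (hx : ⊤ ≤ x.left ⁻¹ᵁ V) :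
    (ev x.left hx).comp (algS hV) = b := by
  have h1 : Spec.map (CommRingCat.ofHom ((ev x.left hx).comp (algS hV))) = Spec.map (CommRingCat.ofHom b) := by
    rw [CommRingCat.ofHom_comp, Spec.map_comp, Spec_algS, ← Category.assoc, spec_ev hV]
    exact Over.w x
  exact congrArg (fun f => CommRingCat.Hom.hom f) (Spec.map_injective h1)

lemma ofHomPt_ev {b : R →+* C} (x : SpecH b ⟶ N) (hx : ⊤ ≤ x.left ⁻¹ᵁ V) :
    ofHomPt hV (ev x.left hx) (ev_comp_algS hV x hx) = x := by
  ext1
  exact spec_ev hV x.left hx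

end Groth.Agent.Sga7.H749.AffPts
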