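import Groth.Agent.Sga7.H749.DualLift
import Mathlib.RingTheory.Smooth.Basic
import Mathlib.RingTheory.Localization.Away.Basic
import Mathlib.Algebra.Polynomial.Reverse
import Mathlib.RingTheory.Polynomial.Basic

/-!
# The base algebra of the annulus

`W = R₂[X][1/(X q*(ϖ₂ X))]`, where `q*` is the reverse of the monic polynomial `q`; the substitution `z ↦ 1/(ϖ₂ X)`
defines a map from `R₁[z][1/q]` to `W[1/ϖ₂]` with bounded denominators.
-/

set_option autoImplicit false
universe u v w x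

open Polynomial TrivSqZeroExt

noncomputable section

namespace Groth.Agent.Sga7.H749.AnnBase

open Groth.Agent.Sga7.H749.DualLift

section Bd

variable {E : Type u} {L : Type v} [CommRing E] [CommRing L] [Algebra E L]

/-- `w ^ M * x` comes from `E`. -/
def Bd (w : E) (M : ℕ) (y : L) : Prop := ∃ e : E, algebraMap E L e = algebraMap E L w ^ M * y

variable {w : E}

lemma Bd.mono {M N : ℕ} (h : M ≤ N) {y : L} (hy : Bd w M y) : Bd w N y := by
  obtain ⟨e, he⟩ := hy
  obtain ⟨k, rfl⟩ := Nat.exists_eq_add_of_le h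
  exact ⟨w ^ k * e, by rw [map_mul, he, map_pow, pow_add]; ring⟩

lemma Bd.mul {M N : ℕ} {x y : L} (hx : Bd w M x) (hy : Bd w N y) : Bd w (M + N) (x * y) := by
  obtain ⟨e, he⟩ := hx
  obtain ⟨e', he'⟩ := hy
  exact ⟨e * e', by rw [map_mul, he, he', pow_add]; ring⟩

lemma Bd.add {M : ℕ} {x y : L} (hx : Bd w M x) (hy : Bd w M y) : Bd w M (x + y) := by
  obtain ⟨e, he⟩ := hx
  obtain ⟨e', he'⟩ := hy
  exact ⟨e + e', by rw [map_add, he, he', mul_add]⟩

lemma Bd.zero {M : ℕ} : Bd w M (0 : L) := ⟨0, by simp⟩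

lemma Bd.sum {ι : Type*} {s : Finset ι} {f : ι → L} {M : ℕ} (h : ∀ i ∈ s, Bd w M (f i)) :
    Bd w M (∑ i ∈ s, f i) := by
  classical
  induction s using Finset.induction_on with
  | empty => simpa using Bd.zero
  | insert a s ha ih =>
    rw [Finset.sum_insert ha]
    exact (h a (Finset.mem_insert_self _ _)).add (ih fun i hi => h i (Finset.mem_insert_of_mem hi))

lemma Bd.of_range (e : E) : Bd w 0 (algebraMap E L e) := ⟨e, by simp⟩

lemma Bd.pow {y : L} (hy : Bd w 0 y) (n : ℕ) : Bd w 0 (y ^ n) := by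
  obtain ⟨e, he⟩ := hy
  exact ⟨e ^ n, by rw [map_pow, he, pow_zero, one_mul]; simp⟩

lemma Bd.pow' {M : ℕ} {y : L} (hy : Bd w M y) (n : ℕ) : Bd w (M * n) (y ^ n) := by
  obtain ⟨e, he⟩ := hy
  exact ⟨e ^ n, by rw [map_pow, he, mul_pow, pow_mul]⟩

/-- If `y` is bounded by `M`, then `w ^ N * y` comes from the ideal generated by `w` as soon as `M < N`. -/
lemma Bd.exists_mul {M N : ℕ} (h : M < N) {y : L} (hy : Bd w M y) :
    ∃ e : E, algebraMap E L (w * e) = algebraMap E L w ^ N * y := by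
  obtain ⟨e, he⟩ := hy
  obtain ⟨k, rfl⟩ := Nat.exists_eq_add_of_lt h
  exact ⟨w ^ k * e, by rw [map_mul, map_mul, he, map_pow, pow_succ, pow_add]; ring⟩

end Bd

section Eval

variable {R : Type u} {S : Type v} [CommRing R] [CommRing S]

lemma eval₂_inv_mul_pow (i : R →+* S) (t : Sˣ) (f : R[X]) :
    eval₂ i (↑t⁻¹ : S) f * (t : S) ^ f.natDegree = eval₂ i (t : S) f.reverse := by
  let : Invertible (↑t⁻¹ : S) := ⟨t, by simp, by simp⟩
  have h := eval₂_reverse_mul_pow i (↑t⁻¹ : S) f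
  have h' : (⅟(↑t⁻¹ : S)) = t := rfl
  rw [h'] at h
  rw [← h, mul_assoc, ← mul_pow, Units.inv_mul, one_pow, mul_one]

end Eval

end Groth.Agent.Sga7.H749.AnnBase
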