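import Groth.Agent.Sga7.H749.AnnRing

/-!
# The annulus theorem
-/

set_option autoImplicit false
universe u v w x

open Polynomial TrivSqZeroExt

noncomputable section

namespace Groth.Agent.Sga7.H749.AnnMain

open Groth.Agent.Sga7.H749.DualLift Groth.Agent.Sga7.H749.AnnBase Groth.Agent.Sga7.H749.Annulus
  Groth.Agent.Sga7.H749.EtaleRing Groth.Agent.Sga7.H749.AnnRing

variable {R₁ R₂ : Type u} [CommRing R₁] [CommRing R₂]

section

variable (q : R₁[X]) (i : R₁ →+* R₂) (w : R₂) (Φ₁ Γ₁ : (W q i w)[X]) (P : EtPair (Localization.Away q))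

/-- `w` in `W'` -/
abbrev aw : W' q i w := algebraMap (W q i w) (W' q i w) (algebraMap R₂ (W q i w) w)

/-- `w` in `L` -/
abbrev wL : L q i w Φ₁ Γ₁ := algebraMap (E q i w Φ₁ Γ₁) (L q i w Φ₁ Γ₁) (algebraMap R₂ (E q i w Φ₁ Γ₁) w)

lemma φ_aw : φ q i w Φ₁ Γ₁ (aw q i w) = wL q i w Φ₁ Γ₁ := φ_algebraMap q i w Φ₁ Γ₁ _

lemma exists_ψ (r : ℕ)
    (hF : (P.f.map (ψ₀ q i w)).comp (C (aw q i w ^ r) * X) =
      C (aw q i w ^ r) * (X + C (algebraMap R₂ (W q i w) w) * Φ₁).map (algebraMap (W q i w) (W' q i w)))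
    (hG : (P.g.map (ψ₀ q i w)).comp (C (aw q i w ^ r) * X) =
      (1 + C (algebraMap R₂ (W q i w) w) * Γ₁).map (algebraMap (W q i w) (W' q i w))) :
    ∃ ψ : P.Ring →+* L q i w Φ₁ Γ₁,
      ψ.comp (algebraMap (Localization.Away q) P.Ring) = (φ q i w Φ₁ Γ₁).comp (ψ₀ q i w) ∧
      ψ P.X = wL q i w Φ₁ Γ₁ ^ r * algebraMap _ _ (y q i w Φ₁ Γ₁) := by
  let E' := E q i w Φ₁ Γ₁
  let L' := L q i w Φ₁ Γ₁
  let yL : L' := algebraMap E' L' (y q i w Φ₁ Γ₁)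
  have key : ∀ (p : (Localization.Away q)[X]), eval₂ ((φ q i w Φ₁ Γ₁).comp (ψ₀ q i w)) (wL q i w Φ₁ Γ₁ ^ r * yL) p =
      eval₂ (φ q i w Φ₁ Γ₁) yL ((p.map (ψ₀ q i w)).comp (C (aw q i w ^ r) * X)) := by
    intro p
    rw [eval₂_comp, eval₂_mul, eval₂_C, eval₂_X, eval₂_map, map_pow, φ_aw]
  have key2 : ∀ (p : (W q i w)[X]), eval₂ (φ q i w Φ₁ Γ₁) yL (p.map (algebraMap (W q i w) (W' q i w))) =
      algebraMap E' L' (aeval (y q i w Φ₁ Γ₁) p) := by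
    intro p
    rw [eval₂_map, aeval_def, hom_eval₂]
    congr 1
    ext a
    exact φ_algebraMap q i w Φ₁ Γ₁ a
  let _ : Algebra (Localization.Away q) L' := ((φ q i w Φ₁ Γ₁).comp (ψ₀ q i w)).toAlgebra
  have hmap : P.HasMap (wL q i w Φ₁ Γ₁ ^ r * yL : L') := by
    refine ⟨?_, ?_⟩
    · change eval₂ ((φ q i w Φ₁ Γ₁).comp (ψ₀ q i w)) (wL q i w Φ₁ Γ₁ ^ r * yL) P.f = 0
      rw [key, hF, eval₂_mul, key2]
      have h0 : aeval (y q i w Φ₁ Γ₁) (X + C (algebraMap R₂ (W q i w) w) * Φ₁) = 0 :=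
        (EtPair.hasMap_X (P := PE q i w Φ₁ Γ₁)).1
      rw [h0, map_zero, mul_zero]
    · change IsUnit (eval₂ ((φ q i w Φ₁ Γ₁).comp (ψ₀ q i w)) (wL q i w Φ₁ Γ₁ ^ r * yL) P.g)
      rw [key, hG, key2]
      have h0 : IsUnit (aeval (y q i w Φ₁ Γ₁) ((1 + C (algebraMap R₂ (W q i w) w) * Γ₁) *
          derivative (X + C (algebraMap R₂ (W q i w) w) * Φ₁))) :=
        (EtPair.hasMap_X (P := PE q i w Φ₁ Γ₁)).2
      rw [map_mul] at h0
      exact (isUnit_of_mul_isUnit_left h0).map (algebraMap E' L')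
  refine ⟨(P.lift (wL q i w Φ₁ Γ₁ ^ r * yL : L') hmap : P.Ring →+* L'), ?_, ?_⟩
  · ext a
    exact (P.lift (wL q i w Φ₁ Γ₁ ^ r * yL : L') hmap).commutes a
  · exact P.lift_X _ hmap

end

/-- elements of the ring of a pair as fractions. -/
lemma exists_frac {R : Type u} [CommRing R] (P : EtPair R) (b : P.Ring) :
    ∃ (h : R[X]) (k : ℕ), b * (aeval P.X P.g) ^ k = aeval P.X h := by
  have hb : b ∈ Algebra.adjoin R {P.X, (↑(EtPair.hasMap_X (P := P)).2.unit⁻¹ : P.Ring)} := by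
    rw [EtPair.adjoin_eq_top]; exact Algebra.mem_top
  induction hb using Algebra.adjoin_induction with
  | mem x hx =>
    rcases hx with rfl | rfl
    · exact ⟨X, 0, by simp⟩
    · refine ⟨1, 1, ?_⟩
      rw [pow_one, IsUnit.val_inv_mul, map_one]
  | algebraMap r => exact ⟨C r, 0, by simp⟩
  | add x y _ _ hx hy =>
    obtain ⟨h, k, e⟩ := hx
    obtain ⟨h', k', e'⟩ := hy
    refine ⟨h * P.g ^ k' + h' * P.g ^ k, k + k', ?_⟩
    rw [map_add, map_mul, map_mul, ← e, ← e', map_pow, map_pow]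
    ring
  | mul x y _ _ hx hy =>
    obtain ⟨h, k, e⟩ := hx
    obtain ⟨h', k', e'⟩ := hy
    refine ⟨h * h', k + k', ?_⟩
    rw [map_mul, ← e, ← e']
    ring

/-- uniform bounds for the denominators of `ψ`. -/
lemma exists_bd_ψ (q : R₁[X]) (P : EtPair (Localization.Away q)) (b : P.Ring) : ∃ M : ℕ,
    ∀ (R₂ : Type u) [CommRing R₂] (i : R₁ →+* R₂) (w : R₂) (Φ₁ Γ₁ : (W q i w)[X]) (r : ℕ)
      (_ : (P.g.map (ψ₀ q i w)).comp (C (aw q i w ^ r) * X) =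
        (1 + C (algebraMap R₂ (W q i w) w) * Γ₁).map (algebraMap (W q i w) (W' q i w)))
      (ψ : P.Ring →+* L q i w Φ₁ Γ₁)
      (_ : ψ.comp (algebraMap (Localization.Away q) P.Ring) = (φ q i w Φ₁ Γ₁).comp (ψ₀ q i w))
      (_ : ψ P.X = wL q i w Φ₁ Γ₁ ^ r * algebraMap _ _ (y q i w Φ₁ Γ₁)),
      Bd (algebraMap R₂ (E q i w Φ₁ Γ₁) w) M (ψ b) := by
  obtain ⟨h, k, hb⟩ := exists_frac P b
  refine ⟨h.support.sup (fun j => bnd q (h.coeff j)), ?_⟩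
  intro R₂ _ i w Φ₁ Γ₁ r hG ψ h1 h2
  let E' := E q i w Φ₁ Γ₁
  let L' := L q i w Φ₁ Γ₁
  let yL : L' := algebraMap E' L' (y q i w Φ₁ Γ₁)
  have key : ∀ (p : (Localization.Away q)[X]), ψ (aeval P.X p) =
      eval₂ (φ q i w Φ₁ Γ₁) yL ((p.map (ψ₀ q i w)).comp (C (aw q i w ^ r) * X)) := by
    intro p
    rw [aeval_def, hom_eval₂, h1, h2, eval₂_comp, eval₂_mul, eval₂_C, eval₂_X, eval₂_map, map_pow, φ_aw]
  have key2 : ∀ (p : (W q i w)[X]), eval₂ (φ q i w Φ₁ Γ₁) yL (p.map (algebraMap (W q i w) (W' q i w))) =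
      algebraMap E' L' (aeval (y q i w Φ₁ Γ₁) p) := by
    intro p
    rw [eval₂_map, aeval_def, hom_eval₂]
    congr 1
    ext a
    exact φ_algebraMap q i w Φ₁ Γ₁ a
  have hg : IsUnit (aeval (y q i w Φ₁ Γ₁) (1 + C (algebraMap R₂ (W q i w) w) * Γ₁)) := by
    have h0 : IsUnit (aeval (y q i w Φ₁ Γ₁) ((1 + C (algebraMap R₂ (W q i w) w) * Γ₁) *
        derivative (X + C (algebraMap R₂ (W q i w) w) * Φ₁))) :=
      (EtPair.hasMap_X (P := PE q i w Φ₁ Γ₁)).2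
    rw [map_mul] at h0
    exact isUnit_of_mul_isUnit_left h0
  obtain ⟨u, hu⟩ := hg
  have hψ : ψ b * algebraMap E' L' (u : E') ^ k = ψ (aeval P.X h) := by
    rw [← hb, map_mul, map_pow, key P.g, hG, key2, hu]
  have hh : Bd (algebraMap R₂ E' w) (h.support.sup (fun j => bnd q (h.coeff j))) (ψ (aeval P.X h)) := by
    rw [aeval_eq_sum_range, map_sum]
    refine Bd.sum fun j _ => ?_
    by_cases hj : j ∈ h.support
    · rw [Algebra.smul_def, map_mul]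
      have h3 : ψ (algebraMap (Localization.Away q) P.Ring (h.coeff j)) = φ q i w Φ₁ Γ₁ (ψ₀ q i w (h.coeff j)) :=
        RingHom.congr_fun h1 _
      rw [h3, map_pow, h2]
      have h4 : Bd (algebraMap R₂ E' w) (bnd q (h.coeff j)) (φ q i w Φ₁ Γ₁ (ψ₀ q i w (h.coeff j))) :=
        bd_φ q i w Φ₁ Γ₁ (bd_ψ₀ q i w (h.coeff j))
      have h5 : Bd (algebraMap R₂ E' w) 0 ((wL q i w Φ₁ Γ₁ ^ r * algebraMap E' L' (y q i w Φ₁ Γ₁)) ^ j) := by
        refine Bd.pow ?_ j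
        exact ⟨algebraMap R₂ E' w ^ r * y q i w Φ₁ Γ₁, by rw [map_mul, map_pow, pow_zero, one_mul]⟩
      have h6 := h4.mul h5
      rw [add_zero] at h6
      exact h6.mono (Finset.le_sup (f := fun j => bnd q (h.coeff j)) hj)
    · rw [notMem_support_iff.mp hj, zero_smul, map_zero]
      exact Bd.zero
  have h7 : ψ b = ψ (aeval P.X h) * algebraMap E' L' ((↑u⁻¹ : E') ^ k) := by
    rw [← hψ, map_pow, mul_assoc, ← mul_pow, ← map_mul, Units.mul_inv, map_one, one_pow, mul_one]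
  rw [h7]
  exact hh.mul (Bd.of_range _)

end Groth.Agent.Sga7.H749.AnnMain
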