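import Groth.Agent.Sga7.H749.Annulus

/-!
# The rescaled equation
-/

set_option autoImplicit false
universe u v w x

open Polynomial TrivSqZeroExt

noncomputable section

namespace Groth.Agent.Sga7.H749.AnnPoly

open Groth.Agent.Sga7.H749.DualLift Groth.Agent.Sga7.H749.AnnBase Groth.Agent.Sga7.H749.Annulus

section Gen

variable {E : Type u} {L : Type v} [CommRing E] [CommRing L] [Algebra E L]

lemma exists_lift_C_mul (w : E) (H : L[X]) (h : ∀ i, ∃ e, algebraMap E L (w * e) = H.coeff i) :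
    ∃ H₁ : E[X], (C w * H₁).map (algebraMap E L) = H := by
  choose e he using h
  refine ⟨∑ i ∈ H.support, monomial i (e i), ?_⟩
  ext i
  rw [coeff_map, coeff_C_mul, finsetSum_coeff]
  simp_rw [coeff_monomial]
  rw [Finset.sum_ite_eq' H.support i e]
  split_ifs with hi
  · exact he i
  · rw [mul_zero, map_zero, notMem_support_iff.mp hi]

/-- rescaling of a polynomial whose linear term is dominant. -/
lemma exists_rescale (w : E) (hw : IsUnit (algebraMap E L w)) (M n r : ℕ) (hn : r + M + 1 = n) (hr : M + 1 ≤ r)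
    (F : L[X]) (hF : ∀ i, Bd w M (F.coeff i)) (F₀ F₁ : L) (hF₀ : Bd w M F₀) (hF₁ : Bd w M F₁)
    (h0 : F.coeff 0 = algebraMap E L w ^ n * F₀) (h1 : F.coeff 1 = 1 + algebraMap E L w ^ n * F₁) :
    ∃ Φ₁ : E[X], F.comp (C (algebraMap E L w ^ r) * X) =
      C (algebraMap E L w ^ r) * (X + C w * Φ₁).map (algebraMap E L) := by
  obtain ⟨u, hu⟩ := hw
  obtain ⟨Φ₁, hΦ⟩ := exists_lift_C_mul w (C (↑(u ^ r)⁻¹ : L) * F.comp (C (algebraMap E L w ^ r) * X) - X) (by
    intro i
    rw [coeff_sub, coeff_C_mul, comp_C_mul_X_coeff]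
    match i with
    | 0 =>
      rw [h0, coeff_X_zero, pow_zero, mul_one, sub_zero]
      obtain ⟨e, he⟩ := hF₀.exists_mul (N := n - r) (by omega)
      refine ⟨e, ?_⟩
      rw [he]
      have : n = r + (n - r) := by omega
      conv_rhs => rw [this, pow_add, ← hu]
      rw [← mul_assoc, ← mul_assoc, ← Units.val_pow_eq_pow_val u r, Units.inv_mul, one_mul, hu]
    | 1 =>
      rw [h1, coeff_X_one, pow_one]
      obtain ⟨e, he⟩ := hF₁.exists_mul (N := n) (by omega)
      refine ⟨e, ?_⟩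
      rw [he, mul_comm _ (algebraMap E L w ^ r), ← mul_assoc, ← hu, ← Units.val_pow_eq_pow_val u r, Units.inv_mul,
        one_mul]
      ring
    | i + 2 =>
      rw [coeff_X_of_ne_one (by omega), sub_zero]
      obtain ⟨e, he⟩ := (hF (i + 2)).exists_mul (N := r * (i + 1)) (by nlinarith)
      refine ⟨e, ?_⟩
      rw [he, ← pow_mul]
      have : r * (i + 2) = r + r * (i + 1) := by ring
      rw [this, pow_add, mul_comm (F.coeff (i + 2)), mul_assoc, ← mul_assoc, ← hu, ← Units.val_pow_eq_pow_val u r,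
        Units.inv_mul, one_mul])
  refine ⟨Φ₁, ?_⟩
  rw [Polynomial.map_add, map_X, hΦ, add_sub_cancel, ← mul_assoc, ← C_mul, ← hu, ← Units.val_pow_eq_pow_val u r,
    Units.mul_inv, C_1, one_mul]

/-- rescaling of a polynomial whose constant term is dominant. -/
lemma exists_rescale_one (w : E) (M n r : ℕ) (hn : M + 1 ≤ n) (hr : M + 1 ≤ r)
    (G : L[X]) (hG : ∀ i, Bd w M (G.coeff i)) (G₀ : L) (hG₀ : Bd w M G₀)
    (h0 : G.coeff 0 = 1 + algebraMap E L w ^ n * G₀) :
    ∃ Γ₁ : E[X], G.comp (C (algebraMap E L w ^ r) * X) = (1 + C w * Γ₁).map (algebraMap E L) := by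
  obtain ⟨Γ₁, hΓ⟩ := exists_lift_C_mul w (G.comp (C (algebraMap E L w ^ r) * X) - 1) (by
    intro i
    rw [coeff_sub, comp_C_mul_X_coeff]
    match i with
    | 0 =>
      rw [h0, coeff_one_zero, pow_zero, mul_one, add_sub_cancel_left]
      exact hG₀.exists_mul (by omega)
    | i + 1 =>
      rw [coeff_one, if_neg (by omega), sub_zero]
      obtain ⟨e, he⟩ := (hG (i + 1)).exists_mul (N := r * (i + 1)) (by nlinarith)
      refine ⟨e, ?_⟩
      rw [he, ← pow_mul, mul_comm])
  refine ⟨Γ₁, ?_⟩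
  rw [Polynomial.map_add, Polynomial.map_one, hΓ, add_sub_cancel]

end Gen

end Groth.Agent.Sga7.H749.AnnPoly
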