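import Groth.Agent.Sga7.H749.AnnPoly
import Mathlib.RingTheory.Flat.TorsionFree

/-!
# The étale algebra over the annulus
-/

set_option autoImplicit false
universe u v w x

open Polynomial TrivSqZeroExt

noncomputable section

namespace Groth.Agent.Sga7.H749.AnnRing

open Groth.Agent.Sga7.H749.DualLift Groth.Agent.Sga7.H749.AnnBase Groth.Agent.Sga7.H749.Annulus
  Groth.Agent.Sga7.H749.EtaleRing

variable {R₁ R₂ : Type u} [CommRing R₁] [CommRing R₂]

section E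

variable (q : R₁[X]) (i : R₁ →+* R₂) (w : R₂) (Φ₁ Γ₁ : (W q i w)[X])

/-- the pair over `W`. -/
def PE : EtPair (W q i w) where
  f := X + C (algebraMap R₂ (W q i w) w) * Φ₁
  g := (1 + C (algebraMap R₂ (W q i w) w) * Γ₁) * derivative (X + C (algebraMap R₂ (W q i w) w) * Φ₁)
  cond := ⟨1 + C (algebraMap R₂ (W q i w) w) * Γ₁, 0, 1, by ring⟩

/-- the étale algebra over `W`. -/
def E : Type u := (PE q i w Φ₁ Γ₁).Ring

instance : CommRing (E q i w Φ₁ Γ₁) := inferInstanceAs (CommRing (PE q i w Φ₁ Γ₁).Ring)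
instance : Algebra (W q i w) (E q i w Φ₁ Γ₁) := inferInstanceAs (Algebra (W q i w) (PE q i w Φ₁ Γ₁).Ring)
instance : Algebra R₂ (E q i w Φ₁ Γ₁) :=
  ((algebraMap (W q i w) (E q i w Φ₁ Γ₁)).comp (algebraMap R₂ (W q i w))).toAlgebra
instance : IsScalarTower R₂ (W q i w) (E q i w Φ₁ Γ₁) := IsScalarTower.of_algebraMap_eq' rfl

instance : Algebra.Etale (W q i w) (E q i w Φ₁ Γ₁) :=
  inferInstanceAs (Algebra.Etale (W q i w) (PE q i w Φ₁ Γ₁).Ring)

instance : Algebra.Smooth R₂ (W q i w) := by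
  have : Algebra.Smooth R₂[X] (W q i w) := Algebra.Smooth.of_isLocalization_Away (X * qr q i w)
  have : Algebra.FinitePresentation R₂ R₂[X] :=
    Algebra.FinitePresentation.equiv (MvPolynomial.uniqueAlgEquiv.{_, 0} R₂ PUnit)
  have : Algebra.Smooth R₂ R₂[X] := ⟨inferInstance, inferInstance⟩
  exact Algebra.Smooth.comp R₂ R₂[X] (W q i w)

instance : Algebra.Smooth R₂ (E q i w Φ₁ Γ₁) := Algebra.Smooth.comp R₂ (W q i w) (E q i w Φ₁ Γ₁)

/-- the variable. -/
def y : E q i w Φ₁ Γ₁ := (PE q i w Φ₁ Γ₁).X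

/-- `E[1/w]` -/
abbrev L : Type u := Localization.Away (algebraMap R₂ (E q i w Φ₁ Γ₁) w)

lemma isUnit_wL : IsUnit (((algebraMap (E q i w Φ₁ Γ₁) (L q i w Φ₁ Γ₁)).comp
    (algebraMap (W q i w) (E q i w Φ₁ Γ₁))) (algebraMap R₂ (W q i w) w)) :=
  IsLocalization.Away.algebraMap_isUnit (algebraMap R₂ (E q i w Φ₁ Γ₁) w)

/-- `W[1/w] → E[1/w]` -/
def φ : W' q i w →+* L q i w Φ₁ Γ₁ :=
  IsLocalization.Away.lift (algebraMap R₂ (W q i w) w) (isUnit_wL q i w Φ₁ Γ₁)

lemma φ_algebraMap (a : W q i w) : φ q i w Φ₁ Γ₁ (algebraMap (W q i w) (W' q i w) a) =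
    algebraMap (E q i w Φ₁ Γ₁) (L q i w Φ₁ Γ₁) (algebraMap (W q i w) (E q i w Φ₁ Γ₁) a) :=
  IsLocalization.Away.lift_eq _ (isUnit_wL q i w Φ₁ Γ₁) a

lemma bd_φ {M : ℕ} {a : W' q i w} (h : Bd (algebraMap R₂ (W q i w) w) M a) :
    Bd (algebraMap R₂ (E q i w Φ₁ Γ₁) w) M (φ q i w Φ₁ Γ₁ a) := by
  obtain ⟨e, he⟩ := h
  refine ⟨algebraMap (W q i w) (E q i w Φ₁ Γ₁) e, ?_⟩
  rw [← φ_algebraMap, he, map_mul, map_pow, φ_algebraMap]
  rfl

lemma w_mem_nonZeroDivisors (hw : w ∈ nonZeroDivisors R₂) :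
    algebraMap R₂ (E q i w Φ₁ Γ₁) w ∈ nonZeroDivisors (E q i w Φ₁ Γ₁) := by
  have h := Module.Flat.isSMulRegular_of_nonZeroDivisors (M := E q i w Φ₁ Γ₁) hw
  rw [mem_nonZeroDivisors_iff_right]
  intro x hx
  apply h
  simp only [Algebra.smul_def, mul_zero]
  rw [mul_comm, hx]

lemma injective_EL (hw : w ∈ nonZeroDivisors R₂) :
    Function.Injective (algebraMap (E q i w Φ₁ Γ₁) (L q i w Φ₁ Γ₁)) :=
  IsLocalization.injective _ (Submonoid.powers_le.mpr (w_mem_nonZeroDivisors q i w Φ₁ Γ₁ hw))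

/-- `w` is not a unit of `E`. -/
lemma not_isUnit_w (hq : q.Monic) (hw : ¬ IsUnit w) : ¬ IsUnit (algebraMap R₂ (E q i w Φ₁ Γ₁) w) := by
  obtain ⟨m, hm, hwm⟩ := exists_max_ideal_of_mem_nonunits hw
  let k := R₂ ⧸ m
  have : Nontrivial k := Ideal.Quotient.nontrivial_iff.mpr hm.ne_top
  have hwk : algebraMap R₂ k w = 0 := Ideal.Quotient.eq_zero_iff_mem.mpr hwm
  -- `R₂[X] → k`, `X ↦ 1`
  have h1 : IsUnit (eval₂RingHom (algebraMap R₂ k) 1 (X * qr q i w)) := by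
    rw [map_mul, coe_eval₂RingHom, eval₂_X, one_mul, qr, eval₂_comp, eval₂_mul, eval₂_C, eval₂_X, hwk, zero_mul,
      eval₂_at_zero, coeff_map, coeff_zero_reverse, hq.leadingCoeff, map_one, map_one]
    exact isUnit_one
  let χ₀ : W q i w →+* k := IsLocalization.Away.lift (X * qr q i w) h1
  have hχ₀ : ∀ r : R₂, χ₀ (algebraMap R₂ (W q i w) r) = algebraMap R₂ k r := by
    intro r
    have : algebraMap R₂ (W q i w) r = algebraMap R₂[X] (W q i w) (C r) := rfl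
    rw [this, IsLocalization.Away.lift_eq, coe_eval₂RingHom, eval₂_C]
  let _ : Algebra (W q i w) k := χ₀.toAlgebra
  have hχw : algebraMap (W q i w) k (algebraMap R₂ (W q i w) w) = 0 := (hχ₀ w).trans hwk
  have hmap : (PE q i w Φ₁ Γ₁).HasMap (0 : k) := by
    refine ⟨?_, ?_⟩
    · change aeval (0 : k) (X + C (algebraMap R₂ (W q i w) w) * Φ₁) = 0
      rw [map_add, aeval_X, map_mul, aeval_C, hχw, zero_mul, add_zero]
    · change IsUnit (aeval (0 : k) ((1 + C (algebraMap R₂ (W q i w) w) * Γ₁) *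
        derivative (X + C (algebraMap R₂ (W q i w) w) * Φ₁)))
      rw [map_mul, map_add, map_one, map_mul, aeval_C, hχw, zero_mul, add_zero, one_mul, derivative_add,
        derivative_X, derivative_C_mul, map_add, map_one, map_mul, aeval_C, hχw, zero_mul, add_zero]
      exact isUnit_one
  intro hu
  have h2 := hu.map ((PE q i w Φ₁ Γ₁).lift (0 : k) hmap)
  have h3 : (PE q i w Φ₁ Γ₁).lift (0 : k) hmap (algebraMap R₂ (E q i w Φ₁ Γ₁) w) = 0 :=
    (((PE q i w Φ₁ Γ₁).lift (0 : k) hmap).commutes (algebraMap R₂ (W q i w) w)).trans hχw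
  exact not_isUnit_zero (h3 ▸ h2)

/-- the lift of `X ↦ X - ε X²`, multiplied by `w`. -/
lemma exists_σ : ∃ σ : E q i w Φ₁ Γ₁ →+* DualNumber (E q i w Φ₁ Γ₁),
    (fstR _).comp σ = RingHom.id _ ∧ (∀ e, ∃ e', (σ e).snd = algebraMap R₂ _ w * e') ∧
    (∀ r : R₂, σ (algebraMap R₂ _ r) = inl (algebraMap R₂ _ r)) ∧
    σ (algebraMap _ _ (xW q i w)) = inl (algebraMap _ _ (xW q i w)) -
      inr (algebraMap R₂ _ w * (algebraMap _ _ (xW q i w)) ^ 2) := by
  let Et := E q i w Φ₁ Γ₁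
  let x : Et := algebraMap (W q i w) Et (xW q i w)
  let τ₀ : R₂[X] →+* DualNumber Et := eval₂RingHom ((inlR Et).comp (algebraMap R₂ Et)) (inl x - inr (x ^ 2))
  have hτ₀ : (fstR Et).comp τ₀ = (algebraMap (W q i w) Et).comp (algebraMap R₂[X] (W q i w)) := by
    refine Polynomial.ringHom_ext (fun a => ?_) ?_
    · simp only [RingHom.comp_apply, τ₀, coe_eval₂RingHom, eval₂_C]
      rfl
    · simp only [RingHom.comp_apply, τ₀, coe_eval₂RingHom, eval₂_X, fstR_apply, fst_sub, fst_inl, fst_inr, sub_zero]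
      rfl
  have hu : IsUnit (τ₀ (X * qr q i w)) := by
    rw [isUnit_iff_isUnit_fst]
    change IsUnit ((fstR Et).comp τ₀ (X * qr q i w))
    rw [hτ₀]
    exact (IsLocalization.Away.algebraMap_isUnit (S := W q i w) (X * qr q i w)).map (algebraMap (W q i w) Et)
  let τ : W q i w →+* DualNumber Et := IsLocalization.Away.lift (X * qr q i w) hu
  have hτ : τ.comp (algebraMap R₂[X] (W q i w)) = τ₀ := IsLocalization.Away.lift_comp _ hu
  obtain ⟨σ₁, h1, h2⟩ := exists_dual_lift (B := W q i w) (E := Et) (RingHom.id Et) τ (by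
    refine IsLocalization.ringHom_ext (Submonoid.powers (X * qr q i w)) ?_
    rw [RingHom.comp_assoc, hτ, hτ₀]
    rfl)
  refine ⟨(scaleMap (RingHom.id Et) (algebraMap R₂ Et w)).comp σ₁, ?_, ?_, ?_, ?_⟩
  · rw [← RingHom.comp_assoc, fstR_comp_scaleMap, RingHom.comp_assoc, h1]
    rfl
  · intro e
    exact ⟨(σ₁ e).snd, by rw [RingHom.comp_apply, snd_scaleMap]; rfl⟩
  · intro r
    have h3 : σ₁ (algebraMap R₂ Et r) = inl (algebraMap R₂ Et r) := by
      have h4 := RingHom.congr_fun h2 (algebraMap R₂ (W q i w) r)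
      have h5 := RingHom.congr_fun hτ (C r)
      rw [RingHom.comp_apply] at h4 h5
      have h6 : τ₀ (C r) = inl (algebraMap R₂ Et r) := by
        simp only [τ₀, coe_eval₂RingHom, eval₂_C]
        rfl
      exact h4.trans (h5.trans h6)
    rw [RingHom.comp_apply, h3]
    ext
    · rw [fst_scaleMap, fst_inl]; rfl
    · rw [snd_scaleMap, snd_inl, map_zero, mul_zero]
  · have h3 : σ₁ x = inl x - inr (x ^ 2) := by
      have h4 := RingHom.congr_fun h2 (xW q i w)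
      have h5 := RingHom.congr_fun hτ X
      rw [RingHom.comp_apply] at h4 h5
      have h6 : τ₀ X = inl x - inr (x ^ 2) := by
        simp only [τ₀, coe_eval₂RingHom, eval₂_X]
      exact h4.trans (h5.trans h6)
    change scaleMap (RingHom.id Et) (algebraMap R₂ Et w) (σ₁ x) = _
    rw [h3]
    ext <;> simp [x, Et]

end E

end Groth.Agent.Sga7.H749.AnnRing
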