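import Groth.Agent.Sga7.H749.AnnMain

/-!
# The annulus theorem: statement and proof
-/

set_option autoImplicit false
universe u v w x

open Polynomial TrivSqZeroExt

noncomputable section

namespace Groth.Agent.Sga7.H749.AnnThm

open Groth.Agent.Sga7.H749.DualLift Groth.Agent.Sga7.H749.AnnBase Groth.Agent.Sga7.H749.Annulus
  Groth.Agent.Sga7.H749.EtaleRing Groth.Agent.Sga7.H749.AnnRing Groth.Agent.Sga7.H749.AnnMain
  Groth.Agent.Sga7.H749.AnnPoly

variable {R₁ : Type u} [CommRing R₁]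

/-- constants and the variable in the ring of a pair over `R₁[z][1/q]`. -/
abbrev cst (q : R₁[X]) (P : EtPair (Localization.Away q)) : R₁[X] →+* P.Ring :=
  (algebraMap (Localization.Away q) P.Ring).comp (algebraMap R₁[X] (Localization.Away q))

lemma ψ₀_C {R₂ : Type u} [CommRing R₂] (q : R₁[X]) (i : R₁ →+* R₂) (w : R₂) (r : R₁) :
    ψ₀ q i w (algebraMap R₁[X] (Localization.Away q) (C r)) =
      algebraMap (W q i w) (W' q i w) (algebraMap R₂ (W q i w) (i r)) := by
  rw [ψ₀_algebraMap, evZ, coe_eval₂RingHom, eval₂_C]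
  rfl

lemma ψ₀_X_mul {R₂ : Type u} [CommRing R₂] (q : R₁[X]) (i : R₁ →+* R₂) (w : R₂) :
    ψ₀ q i w (algebraMap R₁[X] (Localization.Away q) X) *
      algebraMap (W q i w) (W' q i w) (algebraMap R₂ (W q i w) w * xW q i w) = 1 := by
  rw [ψ₀_algebraMap, evZ, coe_eval₂RingHom, eval₂_X, ← tU_coe, Units.inv_mul]

theorem exists_annulus (ϖ : R₁) (q : R₁[X]) (hq : q.Monic) (P : EtPair (Localization.Away q))
    (F₀ F₁ G₀ : Localization.Away q)
    (hF0 : P.f.coeff 0 = algebraMap R₁[X] _ (C ϖ) * F₀)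
    (hF1 : P.f.coeff 1 = 1 + algebraMap R₁[X] _ (C ϖ) * F₁)
    (hG0 : P.g.coeff 0 = 1 + algebraMap R₁[X] _ (C ϖ) * G₀)
    (σP : P.Ring →+* DualNumber P.Ring) (hσ1 : (fstR _).comp σP = RingHom.id _)
    (hσ2 : ∀ r : R₁, σP (cst q P (C r)) = inl (cst q P (C r)))
    (hσ3 : σP (cst q P X) = inl (cst q P X) + inr 1)
    (d a₁ a₂ : P.Ring) (c : R₁) (hd : d = cst q P (C c) + cst q P (C ϖ) * a₁ + P.X * a₂) :
    ∃ N₀ : ℕ, ∀ n ≥ N₀, ∀ (R₂ : Type u) [CommRing R₂] (i : R₁ →+* R₂) (w : R₂),
      w ∈ nonZeroDivisors R₂ → ¬ IsUnit w → w ^ n = i ϖ →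
      ∃ (E : Type u) (_ : CommRing E) (_ : Algebra R₂ E) (_ : Algebra.Smooth R₂ E),
        ¬ IsUnit (algebraMap R₂ E w) ∧
        Function.Injective (algebraMap E (Localization.Away (algebraMap R₂ E w))) ∧
        ∃ (ψ : P.Ring →+* Localization.Away (algebraMap R₂ E w)) (σ : E →+* DualNumber E)
          (σL : Localization.Away (algebraMap R₂ E w) →+* DualNumber (Localization.Away (algebraMap R₂ E w))),
          (fstR _).comp σ = RingHom.id _ ∧
          (∀ e, ∃ e', (σ e).snd = algebraMap R₂ E w * e') ∧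
          (∀ r : R₂, σ (algebraMap R₂ E r) = inl (algebraMap R₂ E r)) ∧
          σL.comp (algebraMap E _) = (mapR (algebraMap E _)).comp σ ∧
          σL.comp ψ = (mapR ψ).comp σP ∧
          (∀ r : R₁, ψ (cst q P (C r)) = algebraMap E _ (algebraMap R₂ E (i r))) ∧
          (∃ e, ψ d = algebraMap E _ (algebraMap R₂ E (i c) + algebraMap R₂ E w * e)) := by
  obtain ⟨M₁, hM₁⟩ := exists_bd_ψ q P a₁
  obtain ⟨M₂, hM₂⟩ := exists_bd_ψ q P a₂
  let Mf : ℕ := (Finset.range (P.f.natDegree + 2)).sup (fun j => bnd q (P.f.coeff j))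
  let Mg : ℕ := (Finset.range (P.g.natDegree + 2)).sup (fun j => bnd q (P.g.coeff j))
  have hMf : ∀ j, bnd q (P.f.coeff j) ≤ Mf := by
    intro j
    by_cases hj : j < P.f.natDegree + 1
    · exact Finset.le_sup (f := fun j => bnd q (P.f.coeff j)) (Finset.mem_range.mpr (by omega))
    · have h1 : P.f.coeff j = P.f.coeff (P.f.natDegree + 1) := by
        rw [coeff_eq_zero_of_natDegree_lt (by omega), coeff_eq_zero_of_natDegree_lt (by omega)]
      rw [h1]
      exact Finset.le_sup (f := fun j => bnd q (P.f.coeff j)) (Finset.mem_range.mpr (by omega))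
  have hMg : ∀ j, bnd q (P.g.coeff j) ≤ Mg := by
    intro j
    by_cases hj : j < P.g.natDegree + 1
    · exact Finset.le_sup (f := fun j => bnd q (P.g.coeff j)) (Finset.mem_range.mpr (by omega))
    · have h1 : P.g.coeff j = P.g.coeff (P.g.natDegree + 1) := by
        rw [coeff_eq_zero_of_natDegree_lt (by omega), coeff_eq_zero_of_natDegree_lt (by omega)]
      rw [h1]
      exact Finset.le_sup (f := fun j => bnd q (P.g.coeff j)) (Finset.mem_range.mpr (by omega))
  let M : ℕ := Mf + Mg + M₁ + M₂ + bnd q F₀ + bnd q F₁ + bnd q G₀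
  refine ⟨2 * M + 2, ?_⟩
  intro n hn R₂ _ i w hw hwu hwn
  obtain ⟨r, hr⟩ : ∃ r, r + M + 1 = n := ⟨n - M - 1, by omega⟩
  have hrM : M + 1 ≤ r := by omega
  -- the equations over `W`
  have hawn : aw q i w ^ n = ψ₀ q i w (algebraMap R₁[X] (Localization.Away q) (C ϖ)) := by
    rw [ψ₀_C, ← hwn, map_pow, map_pow]
  have hbd : ∀ a : Localization.Away q, bnd q a ≤ M → Bd (algebraMap R₂ (W q i w) w) M (ψ₀ q i w a) :=
    fun a ha => (bd_ψ₀ q i w a).mono ha
  obtain ⟨Φ₁, hΦ⟩ := exists_rescale (algebraMap R₂ (W q i w) w) (isUnit_w q i w) M n r hr hrM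
    (P.f.map (ψ₀ q i w)) (fun j => by
      rw [coeff_map]
      exact hbd _ ((hMf j).trans (by omega)))
    (ψ₀ q i w F₀) (ψ₀ q i w F₁) (hbd _ (by omega)) (hbd _ (by omega))
    (by rw [coeff_map, hF0, map_mul, ← hawn])
    (by rw [coeff_map, hF1, map_add, map_one, map_mul, ← hawn])
  obtain ⟨Γ₁, hΓ⟩ := exists_rescale_one (algebraMap R₂ (W q i w) w) M n r (by omega) hrM
    (P.g.map (ψ₀ q i w)) (fun j => by
      rw [coeff_map]
      exact hbd _ ((hMg j).trans (by omega)))
    (ψ₀ q i w G₀) (hbd _ (by omega))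
    (by rw [coeff_map, hG0, map_add, map_one, map_mul, ← hawn])
  obtain ⟨ψ, hψ1, hψ2⟩ := exists_ψ q i w Φ₁ Γ₁ P r hΦ hΓ
  obtain ⟨σ, hσE1, hσE2, hσE3, hσE4⟩ := exists_σ q i w Φ₁ Γ₁
  let E' := E q i w Φ₁ Γ₁
  let L' := L q i w Φ₁ Γ₁
  have hψC : ∀ r : R₁, ψ (cst q P (C r)) = algebraMap E' L' (algebraMap R₂ E' (i r)) := by
    intro r
    have h1 := RingHom.congr_fun hψ1 (algebraMap R₁[X] (Localization.Away q) (C r))
    rw [RingHom.comp_apply, RingHom.comp_apply, ψ₀_C, φ_algebraMap] at h1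
    exact h1
  -- extension of `σ` to `L`
  have hu : IsUnit (((mapR (algebraMap E' L')).comp σ) (algebraMap R₂ E' w)) := by
    rw [RingHom.comp_apply, hσE3, isUnit_iff_isUnit_fst, fst_mapR, fst_inl]
    exact IsLocalization.Away.algebraMap_isUnit _
  let σL : L' →+* DualNumber L' := IsLocalization.Away.lift (algebraMap R₂ E' w) hu
  have hσL : σL.comp (algebraMap E' L') = (mapR (algebraMap E' L')).comp σ := IsLocalization.Away.lift_comp _ hu
  have hσL1 : (fstR L').comp σL = RingHom.id L' := by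
    refine IsLocalization.ringHom_ext (Submonoid.powers (algebraMap R₂ E' w)) ?_
    rw [RingHom.comp_assoc, hσL, ← RingHom.comp_assoc, fstR_comp_mapR, RingHom.comp_assoc, hσE1]
    rfl
  refine ⟨E', inferInstance, inferInstance, inferInstance, not_isUnit_w q i w Φ₁ Γ₁ hq hwu,
    injective_EL q i w Φ₁ Γ₁ hw, ψ, σ, σL, hσE1, hσE2, hσE3, hσL, ?_, hψC, ?_⟩
  · -- compatibility
    refine dual_ext (B := Localization.Away q) ?_ ?_
    · rw [← RingHom.comp_assoc, hσL1, ← RingHom.comp_assoc, fstR_comp_mapR, RingHom.comp_assoc, hσ1]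
      rfl
    · refine IsLocalization.ringHom_ext (Submonoid.powers q) ?_
      refine Polynomial.ringHom_ext (fun a => ?_) ?_
      · change σL (ψ (cst q P (C a))) = mapR ψ (σP (cst q P (C a)))
        rw [hσ2, hψC]
        have h1 := RingHom.congr_fun hσL (algebraMap R₂ E' (i a))
        rw [RingHom.comp_apply, RingHom.comp_apply, hσE3] at h1
        rw [h1]
        ext
        · rw [fst_mapR, fst_inl, fst_mapR, fst_inl, hψC]
        · rw [snd_mapR, snd_inl, snd_mapR, snd_inl, map_zero, map_zero]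
      · change σL (ψ (cst q P X)) = mapR ψ (σP (cst q P X))
        rw [hσ3]
        -- `Z (w x) = 1`
        let xE : E' := algebraMap (W q i w) E' (xW q i w)
        have hZ : ψ (cst q P X) * algebraMap E' L' (algebraMap R₂ E' w * xE) = 1 := by
          have h1 := RingHom.congr_fun hψ1 (algebraMap R₁[X] (Localization.Away q) X)
          have h2 := congrArg (φ q i w Φ₁ Γ₁) (ψ₀_X_mul q i w)
          rw [map_mul, map_one, φ_algebraMap, map_mul] at h2
          rw [RingHom.comp_apply, RingHom.comp_apply] at h1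
          rw [← h1] at h2
          exact h2
        have h3 := congrArg σL hZ
        have h4 : σL (algebraMap E' L' (algebraMap R₂ E' w * xE)) =
            mapR (algebraMap E' L') (inl (algebraMap R₂ E' w) * (inl xE - inr (algebraMap R₂ E' w * xE ^ 2))) :=
          (RingHom.congr_fun hσL (algebraMap R₂ E' w * xE)).trans
            (congrArg (mapR (algebraMap E' L')) (by rw [map_mul, hσE3, hσE4]))
        rw [map_mul, map_one, h4] at h3
        have h5 : (mapR ψ (inl (cst q P X) + inr 1)) *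
            (mapR (algebraMap E' L')) (inl (algebraMap R₂ E' w) *
              (inl xE - inr (algebraMap R₂ E' w * xE ^ 2))) = 1 := by
          have h6 : algebraMap E' L' (algebraMap R₂ E' w) * algebraMap E' L' xE * ψ (cst q P X) = 1 := by
            rw [← map_mul, mul_comm]; exact hZ
          ext
          · simp only [fst_mul, fst_mapR, fst_add, fst_inl, fst_inr, fst_sub, add_zero, sub_zero, fst_one, map_mul]
            linear_combination h6
          · simp only [snd_mul, fst_mul, snd_mapR, fst_mapR, fst_add, fst_inl, fst_inr, fst_sub, add_zero, sub_zero,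
              snd_add, snd_inl, snd_inr, zero_add, snd_sub, zero_sub, snd_one, map_mul, map_neg, map_pow, map_one,
              map_add, map_zero, smul_eq_mul, MulOpposite.smul_eq_mul_unop, MulOpposite.unop_op]
            linear_combination (-(algebraMap E' L' (algebraMap R₂ E' w) * algebraMap E' L' xE)) * h6
        calc σL (ψ (cst q P X)) = σL (ψ (cst q P X)) * ((mapR ψ (inl (cst q P X) + inr 1)) *
              (mapR (algebraMap E' L')) (inl (algebraMap R₂ E' w) *
                (inl xE - inr (algebraMap R₂ E' w * xE ^ 2)))) := by rw [h5, mul_one]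
          _ = (mapR ψ (inl (cst q P X) + inr 1)) * (σL (ψ (cst q P X)) *
              (mapR (algebraMap E' L')) (inl (algebraMap R₂ E' w) *
                (inl xE - inr (algebraMap R₂ E' w * xE ^ 2)))) := by ring
          _ = mapR ψ (inl (cst q P X) + inr 1) := by rw [h3, mul_one]
  · have hb₁ := hM₁ R₂ i w Φ₁ Γ₁ r hΓ ψ hψ1 hψ2
    have hb₂ := hM₂ R₂ i w Φ₁ Γ₁ r hΓ ψ hψ1 hψ2
    obtain ⟨e₁, he₁⟩ := hb₁.exists_mul (N := n) (by omega)
    obtain ⟨e₂, he₂⟩ := hb₂.exists_mul (N := r) (by omega)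
    refine ⟨e₁ + y q i w Φ₁ Γ₁ * e₂, ?_⟩
    rw [hd, map_add, map_add, map_mul, map_mul, hψC, hψC, hψ2, ← hwn]
    rw [map_mul] at he₁ he₂
    rw [map_add, map_mul, map_add, map_mul, map_pow, map_pow]
    linear_combination (-1 : L') * he₁ - algebraMap E' L' (y q i w Φ₁ Γ₁) * he₂

end Groth.Agent.Sga7.H749.AnnThm
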