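import Mathlib.RingTheory.Etale.StandardEtale

/-!
# Étale pairs (not necessarily monic)

For `f g : R[X]` with `f' * p₁ + f * p₂ = g ^ n`, the algebra `R[X][1/g]/f` is étale over `R`, and maps out of it
are roots of `f` at which `g` is invertible.  (Mathlib's `StandardEtalePair` without the monic condition.)
-/

set_option autoImplicit false
universe u v w

open Polynomial
open scoped Bivariate

noncomputable section

namespace Groth.Agent.Sga7.H749.EtaleRing

/-- A pair of polynomials `f g` with `f'` invertible in `R[X][1/g]/f`. -/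
structure EtPair (R : Type u) [CommRing R] where
  /-- the equation -/
  f : R[X]
  /-- the polynomial to be inverted -/
  g : R[X]
  cond : ∃ p₁ p₂ n, derivative f * p₁ + f * p₂ = g ^ n

variable {R : Type u} {S : Type v} {T : Type w} [CommRing R] [CommRing S] [CommRing T] [Algebra R S] [Algebra R T]
  (P : EtPair R)

/-- The étale algebra of an étale pair. -/
def EtPair.Ring := R[X][Y] ⧸ Ideal.span {C P.f, Y * C P.g - 1}
  deriving CommRing, Algebra R

namespace EtPair

/-- The class of the variable. -/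
protected def X : P.Ring := Ideal.Quotient.mk _ (C .X)

/-- The condition on `x` to define a map. -/
def HasMap (x : S) : Prop :=
  aeval x P.f = 0 ∧ IsUnit (aeval x P.g)

/-- The map defined by `x`. -/
def lift (x : S) (h : P.HasMap x) : P.Ring →ₐ[R] S :=
  Ideal.Quotient.liftₐ _ (aevalAeval x ↑(h.2.unit⁻¹))
    (Ideal.span_le (I := RingHom.ker _).mpr (by simp [Set.pair_subset_iff, h.1]))

set_option backward.isDefEq.respectTransparency false in
@[simp]
lemma lift_X (x : S) (h : P.HasMap x) : P.lift x h P.X = x := by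
  simp [lift, EtPair.Ring, EtPair.X]

variable {P} in
lemma HasMap.map {x : S} (h : P.HasMap x) (f : S →ₐ[R] T) : P.HasMap (f x) :=
  ⟨by simp [aeval_algHom, h.1], by simpa [aeval_algHom] using h.2.map f⟩

set_option backward.isDefEq.respectTransparency false in
lemma aeval_X_g_mul_mk_X : aeval P.X P.g * Ideal.Quotient.mk _ .X = 1 := by
  have : aeval (R := R) P.X = (Ideal.Quotient.mkₐ _ _).comp Polynomial.CAlgHom := by
    ext; simp [EtPair.Ring, EtPair.X]
  rw [this]
  dsimp [EtPair.Ring]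
  rw [← map_mul, ← map_one (Ideal.Quotient.mk _), ← sub_eq_zero, ← map_sub, mul_comm]
  exact Ideal.Quotient.eq_zero_iff_mem.mpr (Ideal.subset_span (Set.mem_insert_of_mem _ rfl))

set_option backward.isDefEq.respectTransparency false in
variable {P} in
lemma hasMap_X : P.HasMap P.X :=
  have : aeval (R := R) P.X = (Ideal.Quotient.mkₐ _ _).comp Polynomial.CAlgHom := by
    ext; simp [EtPair.Ring, EtPair.X]
  ⟨this ▸ Ideal.Quotient.eq_zero_iff_mem.mpr (Ideal.subset_span (Set.mem_insert _ _)),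
    IsUnit.of_mul_eq_one _ P.aeval_X_g_mul_mk_X⟩

set_option backward.isDefEq.respectTransparency false in
variable {P} in
@[ext]
lemma hom_ext {f g : P.Ring →ₐ[R] S} (H : f P.X = g P.X) : f = g := by
  have H : (f.comp (Ideal.Quotient.mkₐ R _)).comp CAlgHom =
    (g.comp (Ideal.Quotient.mkₐ R _)).comp CAlgHom := Polynomial.algHom_ext (by simpa)
  have H' : aeval (R := R) P.X = (Ideal.Quotient.mkₐ _ _).comp Polynomial.CAlgHom := by
    ext; simp [EtPair.Ring, EtPair.X]
  refine Ideal.Quotient.algHom_ext _ (Polynomial.algHom_ext' H ?_)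
  change f.toMonoidHom (Ideal.Quotient.mk _ .X) = g.toMonoidHom (Ideal.Quotient.mk _ .X)
  rw [← show (↑P.hasMap_X.2.unit⁻¹ : P.Ring) = Ideal.Quotient.mk _ .X from
    Units.mul_eq_one_iff_inv_eq.mp P.aeval_X_g_mul_mk_X, ← Units.coe_map_inv, ← Units.coe_map_inv]
  congr 2
  ext
  simpa [H'] using! congr($H _)

@[simp]
lemma lift_X_left : P.lift P.X P.hasMap_X = .id _ _ :=
  P.hom_ext (by simp)

/-- Maps out of the ring of a pair. -/
@[simps]
def homEquiv : (P.Ring →ₐ[R] S) ≃ { x : S // P.HasMap x } where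
  toFun f := ⟨f P.X, hasMap_X.map f⟩
  invFun x := P.lift x.1 x.2
  left_inv f := P.hom_ext (by simp)
  right_inv x := by simp

lemma existsUnique_hasMap_of_hasMap_quotient_of_sq_eq_bot
    (I : Ideal S) (hI : I ^ 2 = ⊥) (x : S) (hx : P.HasMap (Ideal.Quotient.mk I x)) :
    ∃! ε, ε ∈ I ∧ P.HasMap (x + ε) := by
  have hf := Ideal.Quotient.eq_zero_iff_mem.mp
    ((aeval_algHom_apply (Ideal.Quotient.mkₐ R I) _ _).symm.trans hx.1)
  obtain ⟨⟨_, a, ha, -⟩, rfl⟩ := hx.2
  obtain ⟨a, rfl⟩ := Ideal.Quotient.mk_surjective a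
  simp_rw [← Ideal.Quotient.mkₐ_eq_mk R, aeval_algHom_apply, ← map_mul, ← map_one
    (Ideal.Quotient.mkₐ R I), Ideal.Quotient.mkₐ_eq_mk, Ideal.Quotient.mk_eq_mk_iff_sub_mem] at ha
  obtain ⟨p₁, p₂, n, e⟩ := P.cond
  apply_fun aeval x at e
  simp only [map_add, map_mul, map_pow] at e
  obtain ⟨ε, hεI, b, hb⟩ : ∃ ε ∈ I, ∃ b, aeval x (derivative P.f) * b = 1 + ε := by
    refine ⟨_, ?_, (a ^ n * aeval x p₁), sub_eq_iff_eq_add'.mp rfl⟩
    convert_to (aeval x P.g * a) ^ n - 1 - aeval x P.f * (a ^ n * aeval x p₂) ∈ I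
    · linear_combination a ^ n * e
    · exact sub_mem (Ideal.mem_of_dvd _ (sub_one_dvd_pow_sub_one _ _) ha) (I.mul_mem_right _ hf)
  have : aeval x P.f ^ 2 = 0 := hI.le (Ideal.pow_mem_pow hf 2)
  have : aeval x P.f * ε = 0 := ((pow_two _).symm.trans hI).le (Ideal.mul_mem_mul hf hεI)
  refine ⟨aeval x P.f * -b, ⟨I.mul_mem_right _ hf, ?_, ?_⟩, ?_⟩
  · rw [Polynomial.aeval_add_of_sq_eq_zero _ _ _ (by grind)]; grind
  · rw [← IsNilpotent.isUnit_quotient_mk_iff (I := I) ⟨2, hI⟩, ← Ideal.Quotient.mkₐ_eq_mk R,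
      ← aeval_algHom_apply, Ideal.Quotient.mkₐ_eq_mk, map_add,
      Ideal.Quotient.eq_zero_iff_mem.mpr (I.mul_mem_right _ hf), add_zero]
    exact hx.2
  · rintro ε' ⟨hε'I, hε', hε''⟩
    rw [Polynomial.aeval_add_of_sq_eq_zero _ _ _ (hI.le (Ideal.pow_mem_pow hε'I 2))] at hε'
    have : ε * ε' = 0 := ((pow_two _).symm.trans hI).le (Ideal.mul_mem_mul hεI hε'I)
    grind

instance : Algebra.FormallyEtale R P.Ring := by
  refine Algebra.FormallyEtale.iff_comp_bijective.mpr fun S _ _ I hI ↦ ?_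
  rw [← P.homEquiv.symm.bijective.of_comp_iff, ← P.homEquiv.bijective.of_comp_iff']
  suffices ∀ x, P.HasMap (Ideal.Quotient.mk I x) → ∃! a : { x : S // P.HasMap x }, a - x ∈ I by
    simpa [Function.bijective_iff_existsUnique, Ideal.Quotient.mk_surjective.forall,
      Subtype.ext_iff, Ideal.Quotient.mk_eq_mk_iff_sub_mem]
  intro x hx
  obtain ⟨ε, ⟨hεI, hε⟩, H⟩ := P.existsUnique_hasMap_of_hasMap_quotient_of_sq_eq_bot I hI _ hx
  exact ⟨⟨x + ε, hε⟩, by simpa, fun y hy ↦
    Subtype.ext (sub_eq_iff_eq_add'.mp (H _ ⟨hy, by simpa using y.2⟩))⟩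

instance : Algebra.Etale R P.Ring where
  finitePresentation := .quotient (Submodule.fg_span (by simp))

/-- The ring of a pair is generated by the variable and the inverse of `g`. -/
lemma adjoin_eq_top : Algebra.adjoin R {P.X, (↑P.hasMap_X.2.unit⁻¹ : P.Ring)} = ⊤ := by
  refine top_unique fun x _ => ?_
  have hX : P.X ∈ Algebra.adjoin R {P.X, (↑P.hasMap_X.2.unit⁻¹ : P.Ring)} :=
    Algebra.subset_adjoin (by simp)
  have hY : (↑P.hasMap_X.2.unit⁻¹ : P.Ring) ∈ Algebra.adjoin R {P.X, (↑P.hasMap_X.2.unit⁻¹ : P.Ring)} :=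
    Algebra.subset_adjoin (by simp)
  have key : ∀ y : R[X][Y], (Ideal.Quotient.mk (Ideal.span {C P.f, Y * C P.g - 1}) y : P.Ring) =
      aevalAeval P.X (↑P.hasMap_X.2.unit⁻¹ : P.Ring) y := by
    intro y
    have h := DFunLike.congr_fun (congrArg (fun φ : P.Ring →ₐ[R] P.Ring =>
      φ.comp (Ideal.Quotient.mkₐ R (Ideal.span {C P.f, Y * C P.g - 1}))) P.lift_X_left) y
    exact h.symm
  obtain ⟨x, rfl⟩ := Ideal.Quotient.mk_surjective (I := Ideal.span {C P.f, Y * C P.g - 1}) x
  have key2 : ∀ y : R[X][Y], aevalAeval P.X (↑P.hasMap_X.2.unit⁻¹ : P.Ring) y ∈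
      Algebra.adjoin R {P.X, (↑P.hasMap_X.2.unit⁻¹ : P.Ring)} := by
    intro y
    induction y using Polynomial.induction_on' with
    | add p q hp hq => rw [map_add]; exact add_mem hp hq
    | monomial n a =>
      rw [← C_mul_X_pow_eq_monomial, map_mul, map_pow]
      refine mul_mem ?_ (pow_mem ?_ n)
      · have : aevalAeval P.X (↑P.hasMap_X.2.unit⁻¹ : P.Ring) (C a) = aeval P.X a := by simp
        rw [this]
        have h := Polynomial.aeval_mem_adjoin_singleton (p := a) R P.X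
        exact Algebra.adjoin_mono (by simp) h
      · have : aevalAeval P.X (↑P.hasMap_X.2.unit⁻¹ : P.Ring) (Polynomial.X : R[X][X]) =
            (↑P.hasMap_X.2.unit⁻¹ : P.Ring) := by simp
        rw [this]
        exact hY
  have := key2 x
  rw [← key] at this
  exact this

end EtPair

end Groth.Agent.Sga7.H749.EtaleRing
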