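import Groth.Agent.Sga7.H749.AnnBase
import Groth.Agent.Sga7.H749.EtaleRing
import Mathlib.RingTheory.Smooth.Flat

/-!
# The substitution `z ↦ 1/(w X)` on `R₁[z][1/q]`

`W = R₂[X][1/(X q*(w X))]` and `ψ₀ : R₁[z][1/q] → W[1/w]`, `z ↦ 1/(w X)`, together with bounds for denominators
which do not depend on `w`.
-/

set_option autoImplicit false
universe u v w x

open Polynomial TrivSqZeroExt

noncomputable section

namespace Groth.Agent.Sga7.H749.Annulus

open Groth.Agent.Sga7.H749.DualLift Groth.Agent.Sga7.H749.AnnBase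

variable {R₁ R₂ : Type u} [CommRing R₁] [CommRing R₂]

section W

variable (q : R₁[X]) (i : R₁ →+* R₂) (w : R₂)

/-- the reverse of `q` at `w X`. -/
def qr : R₂[X] := (q.reverse.map i).comp (C w * X)

/-- `R₂[X][1/(X q*(w X))]` -/
abbrev W : Type u := Localization.Away (X * qr q i w)

/-- `W[1/w]` -/
abbrev W' : Type u := Localization.Away (algebraMap R₂ (W q i w) w)

/-- the variable in `W` -/
def xW : W q i w := algebraMap R₂[X] (W q i w) X

lemma isUnit_xW : IsUnit (xW q i w) :=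
  IsLocalization.Away.isUnit_of_dvd (X * qr q i w) (S := W q i w) (Dvd.intro _ rfl)

lemma isUnit_qrW : IsUnit (algebraMap R₂[X] (W q i w) (qr q i w)) :=
  IsLocalization.Away.isUnit_of_dvd (X * qr q i w) (S := W q i w) (Dvd.intro_left _ rfl)

/-- the structure map `R₁ → W'`. -/
def i' : R₁ →+* W' q i w := (algebraMap (W q i w) (W' q i w)).comp ((algebraMap R₂ (W q i w)).comp i)

lemma isUnit_w : IsUnit (algebraMap (W q i w) (W' q i w) (algebraMap R₂ (W q i w) w)) :=
  IsLocalization.Away.algebraMap_isUnit _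

/-- `w X` as a unit of `W'`. -/
def tU : (W' q i w)ˣ := (isUnit_w q i w).unit * ((isUnit_xW q i w).map (algebraMap (W q i w) (W' q i w))).unit

lemma tU_coe : (tU q i w : W' q i w) = algebraMap (W q i w) (W' q i w)
    (algebraMap R₂ (W q i w) w * xW q i w) := by
  rw [tU, Units.val_mul, IsUnit.unit_spec, IsUnit.unit_spec, map_mul]

lemma algebraMap_eq_eval₂ :
    (algebraMap R₂[X] (W q i w)) = eval₂RingHom (algebraMap R₂ (W q i w)) (xW q i w) := by
  refine Polynomial.ringHom_ext (fun a => ?_) ?_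
  · rw [coe_eval₂RingHom, eval₂_C]
    rfl
  · rw [coe_eval₂RingHom, eval₂_X]
    rfl

/-- the value at `w X` of the reverse of a polynomial over `R₁` comes from `W`. -/
lemma eval₂_tU (p : R₁[X]) : eval₂ (i' q i w) (tU q i w : W' q i w) p =
    algebraMap (W q i w) (W' q i w) (algebraMap R₂[X] (W q i w) ((p.map i).comp (C w * X))) := by
  rw [algebraMap_eq_eval₂, coe_eval₂RingHom, eval₂_comp, eval₂_map, hom_eval₂, tU_coe, eval₂_mul, eval₂_C,
    eval₂_X]
  rfl

/-- evaluation of polynomials over `R₁` at `1/(w X)`. -/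
def evZ : R₁[X] →+* W' q i w := eval₂RingHom (i' q i w) (↑(tU q i w)⁻¹)

lemma evZ_mul (p : R₁[X]) : evZ q i w p * (tU q i w : W' q i w) ^ p.natDegree =
    algebraMap (W q i w) (W' q i w) (algebraMap R₂[X] (W q i w) ((p.reverse.map i).comp (C w * X))) := by
  rw [evZ, coe_eval₂RingHom, eval₂_inv_mul_pow, eval₂_tU]

lemma isUnit_evZ_q : IsUnit (evZ q i w q) := by
  have h := evZ_mul q i w q
  have h2 : IsUnit (evZ q i w q * (tU q i w : W' q i w) ^ q.natDegree) := by
    rw [h]
    exact (isUnit_qrW q i w).map _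
  exact isUnit_of_mul_isUnit_left h2

lemma bd_evZ (p : R₁[X]) : Bd (algebraMap R₂ (W q i w) w) p.natDegree (evZ q i w p) := by
  have h := evZ_mul q i w p
  rw [tU_coe] at h
  obtain ⟨x, hx⟩ := isUnit_xW q i w
  refine ⟨(algebraMap R₂[X] (W q i w) ((p.reverse.map i).comp (C w * X))) * (↑x⁻¹) ^ p.natDegree, ?_⟩
  rw [map_mul, ← h, ← hx, map_mul, mul_pow]
  have h1 : (algebraMap (W q i w) (W' q i w) (x : W q i w)) *
      (algebraMap (W q i w) (W' q i w) ((↑x⁻¹ : W q i w))) = 1 := by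
    rw [← map_mul, Units.mul_inv, map_one]
  calc _ = evZ q i w p * algebraMap (W q i w) (W' q i w) (algebraMap R₂ (W q i w) w) ^ p.natDegree *
      ((algebraMap (W q i w) (W' q i w) (x : W q i w)) *
      (algebraMap (W q i w) (W' q i w) ((↑x⁻¹ : W q i w)))) ^ p.natDegree := by
        rw [map_pow]; ring
    _ = _ := by rw [h1]; ring

lemma bd_evZ_q_inv : Bd (algebraMap R₂ (W q i w) w) 0 (↑(isUnit_evZ_q q i w).unit⁻¹ : W' q i w) := by
  have h := evZ_mul q i w q
  rw [tU_coe, ← map_pow] at h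
  obtain ⟨y, hy⟩ := isUnit_qrW q i w
  change _ = algebraMap (W q i w) (W' q i w) (algebraMap R₂[X] (W q i w) (qr q i w)) at h
  rw [← hy] at h
  refine ⟨(algebraMap R₂ (W q i w) w * xW q i w) ^ q.natDegree * ↑y⁻¹, ?_⟩
  rw [pow_zero, one_mul]
  apply (isUnit_evZ_q q i w).mul_left_cancel
  rw [IsUnit.mul_val_inv, map_mul, ← mul_assoc, h, ← map_mul, Units.mul_inv, map_one]

/-- The substitution `z ↦ 1/(w X)`. -/
def ψ₀ : Localization.Away q →+* W' q i w := IsLocalization.Away.lift q (isUnit_evZ_q q i w)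

lemma ψ₀_algebraMap (p : R₁[X]) : ψ₀ q i w (algebraMap R₁[X] (Localization.Away q) p) = evZ q i w p :=
  IsLocalization.Away.lift_eq q (isUnit_evZ_q q i w) p

/-- a bound for the denominators of an element of `R₁[z][1/q]`. -/
def bnd (a : Localization.Away q) : ℕ := (IsLocalization.Away.sec q a).1.natDegree

lemma bd_ψ₀ (a : Localization.Away q) : Bd (algebraMap R₂ (W q i w) w) (bnd q a) (ψ₀ q i w a) := by
  have h := congrArg (ψ₀ q i w) (IsLocalization.Away.sec_spec q a)
  rw [map_mul, map_pow, map_pow, ψ₀_algebraMap, ψ₀_algebraMap] at h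
  have h2 := (bd_evZ q i w (IsLocalization.Away.sec q a).1).mul
    ((bd_evZ_q_inv q i w).pow (IsLocalization.Away.sec q a).2)
  rw [← h, mul_assoc, ← mul_pow, IsUnit.mul_val_inv, one_pow, mul_one] at h2
  exact h2

end W

end Groth.Agent.Sga7.H749.Annulus
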