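import Groth.Agent.Sga7.H749.UStar
import Mathlib.RingTheory.Ideal.Quotient.Operations

/-!
# The contradiction

A point of `N₂` over the smooth algebra `E` whose logarithmic derivative is `≡ 1` modulo `w` but which is on the
localization the transport of a point of `N` whose logarithmic derivative is a unit modulo `w`.
-/

set_option autoImplicit false
universe u

open CategoryTheory MonoidalCategory CartesianMonoidalCategory MonObj GrpObj AlgebraicGeometry Limits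

noncomputable section

namespace Groth.Agent.Sga7.H749.Contra

open Groth.Agent.Sga7.H749.DualLift Groth.Agent.Sga7.H749.Pts Groth.Agent.Sga7.H749.UStar

section dlog

variable {R : Type u} [CommRing R] {A B : Type u} [CommRing A] [CommRing B]
  {N : Over (Spec (CommRingCat.of R))} [GrpObj N]

/-- the logarithmic derivative of a point along `σ`. -/
def dlog {b : R →+* A} (σ : A →+* DualNumber A) (h : σ.comp b = (inlR A).comp b) (p : SpecH b ⟶ N) :
    SpecH ((inlR A).comp b) ⟶ N :=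
  (pmap σ h ≫ p) * (pmap (inlR A) rfl ≫ p)⁻¹

lemma fst_dlog {b : R →+* A} (σ : A →+* DualNumber A) (h : σ.comp b = (inlR A).comp b)
    (hσ : (fstR A).comp σ = RingHom.id A) (p : SpecH b ⟶ N) (h' : (fstR A).comp ((inlR A).comp b) = b) :
    pmap (fstR A) h' ≫ dlog σ h p = 1 := by
  rw [dlog, MonObj.comp_mul, GrpObj.comp_inv, ← Category.assoc, ← Category.assoc, pmap_comp, pmap_comp,
    pmap_congr hσ _ rfl, pmap_congr (fstR_comp_inlR (S := A)) _ rfl, mul_inv_cancel]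

lemma dlog_nat {b : R →+* A} {b' : R →+* B} (φ : A →+* B) (hb : φ.comp b = b') (σ : A →+* DualNumber A)
    (σ' : B →+* DualNumber B) (h : σ.comp b = (inlR A).comp b) (h' : σ'.comp b' = (inlR B).comp b')
    (hc : σ'.comp φ = (mapR φ).comp σ) (p : SpecH b ⟶ N)
    (hi : (mapR φ).comp ((inlR A).comp b) = (inlR B).comp b') :
    pmap (mapR φ) hi ≫ dlog σ h p = dlog σ' h' (pmap φ hb ≫ p) := by
  have e1 : pmap (mapR φ) hi ≫ pmap σ h = pmap σ' h' ≫ pmap φ hb := by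
    rw [pmap_comp, pmap_comp]
    exact pmap_congr hc.symm _ _
  have e2 : pmap (mapR φ) hi ≫ pmap (inlR A) rfl = pmap (inlR B) rfl ≫ pmap φ hb := by
    rw [pmap_comp, pmap_comp]
    exact pmap_congr (mapR_comp_inlR φ) _ _
  rw [dlog, dlog, MonObj.comp_mul, GrpObj.comp_inv, ← Category.assoc, ← Category.assoc, e1, e2, Category.assoc,
    Category.assoc]

lemma dlog_eq_one {T : Type u} [CommRing T] {b : R →+* A} (σ : A →+* DualNumber A)
    (h : σ.comp b = (inlR A).comp b) (p : SpecH b ⟶ N) (π : DualNumber A →+* T)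
    (hπ : π.comp σ = π.comp (inlR A)) {t : R →+* T} (ht : π.comp ((inlR A).comp b) = t) :
    pmap π ht ≫ dlog σ h p = 1 := by
  have e1 : pmap π ht ≫ pmap σ h = pmap π ht ≫ pmap (inlR A) rfl := by
    rw [pmap_comp, pmap_comp]
    exact pmap_congr hπ _ _
  rw [dlog, MonObj.comp_mul, GrpObj.comp_inv, ← Category.assoc, ← Category.assoc, e1, mul_inv_cancel]

end dlog

section uStar

variable {R R₂ : Type u} [CommRing R] [CommRing R₂] (j : R →+* R₂) {C : Type u} [CommRing C]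
  {N : Over (Spec (CommRingCat.of R))} {N₂ : Over (Spec (CommRingCat.of R₂))} [GrpObj N] [GrpObj N₂]
  (u : Red.bc (Spec.map (CommRingCat.ofHom j)) N ⟶ N₂) [IsMonHom u]

lemma uStar_dlog (c : R₂ →+* C) {b : R →+* C} (hb : c.comp j = b) (σ : C →+* DualNumber C)
    (h : σ.comp b = (inlR C).comp b) (h₂ : σ.comp c = (inlR C).comp c) (p : SpecH b ⟶ N)
    (hbb : ((inlR C).comp c).comp j = (inlR C).comp b) :
    uStar j u ((inlR C).comp c) hbb (dlog σ h p) = dlog σ h₂ (uStar j u c hb p) := by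
  rw [dlog, dlog, uStar_mul, uStar_inv, pmap_uStar j u c hb p σ h₂ hbb h, pmap_uStar j u c hb p (inlR C) rfl hbb rfl]

end uStar

lemma unit_left {R : Type u} [CommRing R] {N : Over (Spec (CommRingCat.of R))} [GrpObj N]
    {A B : Type u} [CommRing A] [CommRing B] {a : R →+* A} {b : R →+* B} (φ : A →+* B) (h : φ.comp a = b) :
    (1 : SpecH b ⟶ N) = pmap φ h ≫ (1 : SpecH a ⟶ N) := by
  rw [MonObj.comp_one]

/-- the unit section meets `V`. -/
def UnitIn {R : Type u} [CommRing R] (N : Over (Spec (CommRingCat.of R))) [GrpObj N] (V : N.left.Opens) : Prop :=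
  ∀ (B : Type u) [CommRing B] (b : R →+* B), ⊤ ≤ (1 : SpecH b ⟶ N).left ⁻¹ᵁ V

/-- The contradiction. -/
theorem contra {R R₂ : Type u} [CommRing R] [CommRing R₂] (j : R →+* R₂)
    (N : Over (Spec (CommRingCat.of R))) [GrpObj N] (V : N.left.Opens) (hV : UnitIn N V) (f₀ : Γ(N.left, V))
    {A : Type u} [CommRing A] (b : R →+* A) (pN : SpecH b ⟶ N) (σA : A →+* DualNumber A)
    (hσA : σA.comp b = (inlR A).comp b)
    (hδ : ⊤ ≤ (dlog σA hσA pN).left ⁻¹ᵁ V) (d : A) (hd : d = (ev (dlog σA hσA pN).left hδ f₀).snd)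
    {E L : Type u} [CommRing E] [CommRing L] (e₂ : R₂ →+* E) (w : R₂) (l : E →+* L) (hl : Function.Injective l)
    (ψ : A →+* L) (σ : E →+* DualNumber E) (σL : L →+* DualNumber L)
    (hσ1 : (fstR E).comp σ = RingHom.id E) (hσ2 : ∀ e, ∃ e', (σ e).snd = e₂ w * e')
    (hσ3 : σ.comp e₂ = (inlR E).comp e₂) (hσL : σL.comp l = (mapR l).comp σ)
    (hψσ : σL.comp ψ = (mapR ψ).comp σA) (hψb : ψ.comp b = (l.comp e₂).comp j)
    (c : R₂) (hc : IsUnit c) (e : E) (hψd : ψ d = l (e₂ c + e₂ w * e)) (hw : ¬ IsUnit (e₂ w))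
    (N₂ : Over (Spec (CommRingCat.of R₂))) [GrpObj N₂]
    (u : Red.bc (Spec.map (CommRingCat.ofHom j)) N ⟶ N₂) [IsMonHom u] [IsOpenImmersion u.left]
    (hExt : ∀ x : SpecH (l.comp e₂) ⟶ N₂, ∃ y : SpecH e₂ ⟶ N₂, pmap l rfl ≫ y = x) : False := by
  have : Mono u := by
    have : Mono u.left := inferInstance
    exact Over.mono_of_mono_left u
  let pL : SpecH (l.comp e₂) ⟶ N₂ := uStar j u (l.comp e₂) rfl (pmap ψ hψb ≫ pN)
  obtain ⟨pE, hpE⟩ := hExt pL
  let δE : SpecH ((inlR E).comp e₂) ⟶ N₂ := dlog σ hσ3 pE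
  have hfst : ∀ {Q : Type u} [CommRing Q] (q : Q →+* E), (fstR E).comp ((inlR E).comp q) = q := by
    intro Q _ q
    rw [← RingHom.comp_assoc, fstR_comp_inlR, RingHom.id_comp]
  have hδE1 : pmap (fstR E) (hfst e₂) ≫ δE = 1 := fst_dlog σ hσ3 hσ1 pE (hfst e₂)
  -- the point `δE` comes from `N`
  have hrange : Set.range δE.left ⊆ Set.range u.left := by
    have h1 : ⊤ ≤ δE.left ⁻¹ᵁ u.left.opensRange := by
      apply le_preimage_of_fst
      have h2 : Spec.map (CommRingCat.ofHom (fstR E)) ≫ δE.left = (1 : SpecH e₂ ⟶ N₂).left :=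
        congrArg (fun x => x.left) hδE1
      rw [h2, ← uStar_one j u e₂ rfl]
      intro p _
      exact ⟨_, rfl⟩
    rintro _ ⟨p, rfl⟩
    exact h1 (Set.mem_univ p)
  obtain ⟨δ', hδ'⟩ := exists_uStar_eq j u ((inlR E).comp e₂) rfl δE hrange
  have hδ'1 : pmap (fstR E) (hfst (e₂.comp j)) ≫ δ' = 1 := by
    apply uStar_injective j u e₂ rfl
    rw [← pmap_uStar j u ((inlR E).comp e₂) rfl δ' (fstR E) (hfst e₂) rfl (hfst (e₂.comp j)), hδ', hδE1, uStar_one]
  have hδ'V : ⊤ ≤ δ'.left ⁻¹ᵁ V := by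
    apply le_preimage_of_fst
    have h2 : Spec.map (CommRingCat.ofHom (fstR E)) ≫ δ'.left = (1 : SpecH (e₂.comp j) ⟶ N).left :=
      congrArg (fun x => x.left) hδ'1
    rw [h2]
    exact hV E (e₂.comp j)
  -- comparison over `L[ε]`
  have hcomp : pmap (mapR l) (by rw [← RingHom.comp_assoc, ← RingHom.comp_assoc, mapR_comp_inlR]; rfl) ≫ δ' =
      (pmap (mapR ψ) (by rw [← RingHom.comp_assoc, mapR_comp_inlR, RingHom.comp_assoc, hψb]; rfl) ≫
        dlog σA hσA pN : SpecH (((inlR L).comp (l.comp e₂)).comp j) ⟶ N) := by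
    apply uStar_injective j u ((inlR L).comp (l.comp e₂)) rfl
    have hi : (mapR l).comp ((inlR E).comp e₂) = (inlR L).comp (l.comp e₂) := by
      rw [← RingHom.comp_assoc, mapR_comp_inlR]; rfl
    have hσL' : σL.comp (l.comp e₂) = (inlR L).comp (l.comp e₂) := by
      rw [← RingHom.comp_assoc, hσL, RingHom.comp_assoc, hσ3, hi]
    have hσL'' : σL.comp ((l.comp e₂).comp j) = (inlR L).comp ((l.comp e₂).comp j) := by
      rw [← RingHom.comp_assoc, hσL']; rfl
    rw [← pmap_uStar j u ((inlR E).comp e₂) rfl δ' (mapR l) hi rfl, hδ',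
      dlog_nat ψ hψb σA σL hσA hσL'' hψσ pN, uStar_dlog j u (l.comp e₂) rfl σL hσL'' hσL',
      dlog_nat l rfl σ σL hσ3 hσL' hσL pE, hpE]
  -- values of `f₀`
  have hV1 : ⊤ ≤ (Spec.map (CommRingCat.ofHom (mapR l)) ≫ δ'.left) ⁻¹ᵁ V := by
    intro p _
    exact hδ'V (Set.mem_univ _)
  have hV2 : ⊤ ≤ (Spec.map (CommRingCat.ofHom (mapR ψ)) ≫ (dlog σA hσA pN).left) ⁻¹ᵁ V := by
    intro p _
    exact hδ (Set.mem_univ _)
  have hval : mapR l (ev δ'.left hδ'V f₀) = mapR ψ (ev (dlog σA hσA pN).left hδ f₀) := by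
    rw [← ev_comp (mapR l) δ'.left hδ'V hV1, ← ev_comp (mapR ψ) _ hδ hV2]
    have h3 : Spec.map (CommRingCat.ofHom (mapR l)) ≫ δ'.left =
        Spec.map (CommRingCat.ofHom (mapR ψ)) ≫ (dlog σA hσA pN).left :=
      congrArg (fun x => x.left) hcomp
    congr 2
  have hsnd : (ev δ'.left hδ'V f₀).snd = e₂ c + e₂ w * e := by
    apply hl
    rw [← hψd, hd, ← snd_mapR, ← snd_mapR, hval]
  -- reduction modulo `w`
  let I : Ideal (DualNumber E) := Ideal.span {TrivSqZeroExt.inr (e₂ w)}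
  obtain ⟨T, _, π, hπs⟩ : ∃ (T : Type u) (_ : CommRing T) (π : DualNumber E →+* T),
      ∀ x y, π x = π y ↔ x - y ∈ I := ⟨DualNumber E ⧸ I, inferInstance, Ideal.Quotient.mk I, fun x y => Ideal.Quotient.eq⟩
  have hπ : π.comp σ = π.comp (inlR E) := by
    ext x
    obtain ⟨x', hx'⟩ := hσ2 x
    have h0 : (σ x).fst = x := RingHom.congr_fun hσ1 x
    change π (σ x) = π (TrivSqZeroExt.inl x)
    rw [hπs, Ideal.mem_span_singleton]
    refine ⟨TrivSqZeroExt.inl x', ?_⟩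
    ext
    · simp [h0]
    · simp [hx']
  have hπδ : pmap π rfl ≫ δ' = 1 := by
    apply uStar_injective j u (π.comp ((inlR E).comp e₂)) rfl
    rw [← pmap_uStar j u ((inlR E).comp e₂) rfl δ' π rfl rfl, hδ', dlog_eq_one σ hσ3 pE π hπ rfl, uStar_one]
  have hπ1 : pmap π rfl ≫ (pmap (inlR E) rfl ≫ (1 : SpecH (e₂.comp j) ⟶ N)) = 1 := by
    rw [MonObj.comp_one, MonObj.comp_one]
  have hval2 : π (ev δ'.left hδ'V f₀) =
      π (inlR E (ev (1 : SpecH (e₂.comp j) ⟶ N).left (hV E (e₂.comp j)) f₀)) := by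
    have hW1 : ⊤ ≤ (Spec.map (CommRingCat.ofHom π) ≫ δ'.left) ⁻¹ᵁ V := by
      intro p _
      exact hδ'V (Set.mem_univ _)
    have hW2 : ⊤ ≤ (Spec.map (CommRingCat.ofHom (inlR E)) ≫ (1 : SpecH (e₂.comp j) ⟶ N).left) ⁻¹ᵁ V := by
      intro p _
      exact hV E (e₂.comp j) (Set.mem_univ _)
    have hW3 : ⊤ ≤ (Spec.map (CommRingCat.ofHom π) ≫
        (Spec.map (CommRingCat.ofHom (inlR E)) ≫ (1 : SpecH (e₂.comp j) ⟶ N).left)) ⁻¹ᵁ V := by
      intro p _
      exact hW2 (Set.mem_univ _)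
    rw [← ev_comp π δ'.left hδ'V hW1, ← ev_comp (inlR E) _ (hV E (e₂.comp j)) hW2, ← ev_comp π _ hW2 hW3]
    have h3 : Spec.map (CommRingCat.ofHom π) ≫ δ'.left =
        Spec.map (CommRingCat.ofHom π) ≫ (Spec.map (CommRingCat.ofHom (inlR E)) ≫
          (1 : SpecH (e₂.comp j) ⟶ N).left) :=
      congrArg (fun x => x.left) (hπδ.trans hπ1.symm)
    congr 2
  have hmem : ev δ'.left hδ'V f₀ - inlR E (ev (1 : SpecH (e₂.comp j) ⟶ N).left (hV E (e₂.comp j)) f₀) ∈ I :=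
    (hπs _ _).mp hval2
  obtain ⟨t, ht⟩ := Ideal.mem_span_singleton.mp hmem
  have hsnd2 : (ev δ'.left hδ'V f₀).snd = e₂ w * t.fst := by
    have h4 := congrArg TrivSqZeroExt.snd ht
    simpa using h4
  apply hw
  have hdvd : e₂ w ∣ e₂ c := ⟨t.fst - e, by linear_combination hsnd2 - hsnd⟩
  exact isUnit_of_dvd_unit hdvd (hc.map e₂)

end Groth.Agent.Sga7.H749.Contra
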