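import Groth.Agent.Sga7.H749.LiftPt2
import Mathlib.RingTheory.LocalRing.ResidueField.Basic
import Mathlib.RingTheory.Localization.FractionRing
import Mathlib.Algebra.Polynomial.Lifts

/-!
# The residue field of the Gauss valuation
-/

set_option autoImplicit false
universe u

open Polynomial IsLocalRing

noncomputable section

namespace Groth.Agent.Sga7.H749.ResFrac

open Groth.Agent.Sga7.H749.LiftPt2 Groth.Agent.Sga7.H749.DualLift

/-- factorization through an injective map. -/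
lemma exists_factor {A B S : Type u} [CommRing A] [CommRing B] [CommRing S] (j : A →+* B)
    (hj : Function.Injective j) (θ : S →+* B) (h : ∀ s, θ s ∈ j.range) : ∃ θ₁ : S →+* A, j.comp θ₁ = θ := by
  let e : A ≃+* j.range := RingEquiv.ofBijective j.rangeRestrict
    ⟨fun x y hxy => hj (congrArg Subtype.val hxy), j.rangeRestrict_surjective⟩
  refine ⟨(e.symm : j.range →+* A).comp (θ.codRestrict j.range h), ?_⟩
  ext s
  have h1 := e.apply_symm_apply ⟨θ s, h s⟩
  exact congrArg Subtype.val h1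

section

variable {R₁ κ : Type u} [CommRing R₁] [IsLocalRing R₁] [Field κ] (φ₁ : R₁ →+* κ) [IsLocalHom φ₁]

/-- `R₁[X] → k₁(X)` -/
def lam (R₁ : Type u) [CommRing R₁] [IsLocalRing R₁] : R₁[X] →+* FractionRing (ResidueField R₁)[X] :=
  (algebraMap (ResidueField R₁)[X] (FractionRing (ResidueField R₁)[X])).comp (mapRingHom (residue R₁))

lemma lam_eq_zero {ϖ : R₁} (hϖ : maximalIdeal R₁ = Ideal.span {ϖ}) (a : R₁[X]) (ha : lam R₁ a = 0) :
    ∃ b, a = C ϖ * b := by
  have h1 : a.map (residue R₁) = 0 := by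
    have h2 : Function.Injective (algebraMap (ResidueField R₁)[X] (FractionRing (ResidueField R₁)[X])) :=
      IsFractionRing.injective _ _
    apply h2
    rw [map_zero]
    exact ha
  have h3 : C ϖ ∣ a := by
    rw [C_dvd_iff_dvd_coeff]
    intro i
    have h4 : residue R₁ (a.coeff i) = 0 := by rw [← coeff_map, h1, coeff_zero]
    rw [residue_eq_zero_iff, hϖ, Ideal.mem_span_singleton] at h4
    exact h4
  exact h3

lemma fracs_lam : Fracs (lam R₁) := by
  intro x
  obtain ⟨a, b, hb, rfl⟩ := IsFractionRing.div_surjective (A := (ResidueField R₁)[X]) x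
  have hb0 : b ≠ 0 := nonZeroDivisors.ne_zero hb
  have hlc : b.leadingCoeff ≠ 0 := leadingCoeff_ne_zero.mpr hb0
  have hmon : (C (b.leadingCoeff)⁻¹ * b).Monic := by
    rw [mul_comm]; exact monic_mul_leadingCoeff_inv hb0
  obtain ⟨q, hq1, hq2, hq3⟩ := lifts_and_natDegree_eq_and_monic
    (mem_lifts_of_surjective residue_surjective (C (b.leadingCoeff)⁻¹ * b)) hmon
  obtain ⟨p, hp⟩ := Polynomial.map_surjective (residue R₁) residue_surjective (C (b.leadingCoeff)⁻¹ * a)
  have hinj : Function.Injective (algebraMap (ResidueField R₁)[X] (FractionRing (ResidueField R₁)[X])) :=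
    IsFractionRing.injective _ _
  have hlq : lam R₁ q = algebraMap _ _ (C (b.leadingCoeff)⁻¹ * b) := by
    rw [← hq1]; rfl
  have hlp : lam R₁ p = algebraMap _ _ (C (b.leadingCoeff)⁻¹ * a) := by
    rw [← hp]; rfl
  have hb1 : algebraMap (ResidueField R₁)[X] (FractionRing (ResidueField R₁)[X]) b ≠ 0 := by
    rw [Ne, map_eq_zero_iff _ hinj]; exact hb0
  refine ⟨p, q, hq3, ?_, ?_⟩
  · rw [hlq, Ne, map_eq_zero_iff _ hinj]
    exact hmon.ne_zero
  · rw [hlq, hlp, map_mul, map_mul]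
    field_simp

/-- `k₁(X) → κ(X)` -/
def j₁ : FractionRing (ResidueField R₁)[X] →+* FractionRing κ[X] :=
  IsFractionRing.lift (A := (ResidueField R₁)[X])
    (g := (algebraMap κ[X] (FractionRing κ[X])).comp (mapRingHom (ResidueField.lift φ₁)))
    ((IsFractionRing.injective κ[X] (FractionRing κ[X])).comp
      (Polynomial.map_injective _ (RingHom.injective _)))

lemma j₁_algebraMap (a : (ResidueField R₁)[X]) :
    j₁ φ₁ (algebraMap _ _ a) = algebraMap κ[X] (FractionRing κ[X]) (a.map (ResidueField.lift φ₁)) :=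
  IsFractionRing.lift_algebraMap _ _

lemma j₁_lam (a : R₁[X]) : j₁ φ₁ (lam R₁ a) = algebraMap κ[X] (FractionRing κ[X]) (a.map φ₁) := by
  have h1 : lam R₁ a = algebraMap _ _ (a.map (residue R₁)) := rfl
  rw [h1, j₁_algebraMap, Polynomial.map_map]
  congr 2

/-- fractions with coefficients in the image of `φ₁`. -/
lemma mem_range_j₁ (a b : κ[X]) (ha : ∀ n, a.coeff n ∈ φ₁.range) (hb : ∀ n, b.coeff n ∈ φ₁.range) :
    algebraMap κ[X] (FractionRing κ[X]) a / algebraMap κ[X] (FractionRing κ[X]) b ∈ (j₁ φ₁).range := by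
  have key : ∀ c : κ[X], (∀ n, c.coeff n ∈ φ₁.range) →
      ∃ c', j₁ φ₁ c' = algebraMap κ[X] (FractionRing κ[X]) c := by
    intro c hc
    have h1 : c ∈ lifts φ₁ := (lifts_iff_coeff_lifts c).mpr hc
    obtain ⟨c', rfl⟩ := (mem_lifts c).mp h1
    exact ⟨lam R₁ c', j₁_lam φ₁ c'⟩
  obtain ⟨a', ha'⟩ := key a ha
  obtain ⟨b', hb'⟩ := key b hb
  exact ⟨a' / b', by rw [map_div₀, ha', hb']⟩

end

/-- the derivation `X ↦ X + ε` of `κ(X)` -/
theorem exists_σΩ (κ : Type u) [Field κ] : ∃ σ : FractionRing κ[X] →+* DualNumber (FractionRing κ[X]),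
    (fstR _).comp σ = RingHom.id _ ∧
    (∀ c : κ, σ (algebraMap κ[X] _ (C c)) = TrivSqZeroExt.inl (algebraMap κ[X] _ (C c))) ∧
    σ (algebraMap κ[X] _ X) = TrivSqZeroExt.inl (algebraMap κ[X] _ X) + TrivSqZeroExt.inr 1 := by
  let Ω := FractionRing κ[X]
  let τ : κ[X] →+* DualNumber Ω := eval₂RingHom ((inlR Ω).comp ((algebraMap κ[X] Ω).comp C))
    (TrivSqZeroExt.inl (algebraMap κ[X] Ω X) + TrivSqZeroExt.inr 1)
  have hτ : (fstR Ω).comp τ = algebraMap κ[X] Ω := by
    refine Polynomial.ringHom_ext (fun a => ?_) ?_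
    · simp only [RingHom.comp_apply, τ, coe_eval₂RingHom, eval₂_C]
      rfl
    · simp only [RingHom.comp_apply, τ, coe_eval₂RingHom, eval₂_X, fstR_apply, TrivSqZeroExt.fst_add,
        TrivSqZeroExt.fst_inl, TrivSqZeroExt.fst_inr, add_zero]
  have hu : ∀ y : nonZeroDivisors κ[X], IsUnit (τ y) := by
    intro y
    rw [TrivSqZeroExt.isUnit_iff_isUnit_fst]
    change IsUnit ((fstR Ω).comp τ y)
    rw [hτ]
    exact IsLocalization.map_units Ω y
  let σ : Ω →+* DualNumber Ω := IsLocalization.lift hu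
  have hσ : σ.comp (algebraMap κ[X] Ω) = τ := IsLocalization.lift_comp hu
  refine ⟨σ, ?_, ?_, ?_⟩
  · refine IsLocalization.ringHom_ext (nonZeroDivisors κ[X]) ?_
    rw [RingHom.comp_assoc, hσ, hτ]
    rfl
  · intro c
    have h1 := RingHom.congr_fun hσ (C c)
    rw [RingHom.comp_apply] at h1
    rw [h1]
    simp only [τ, coe_eval₂RingHom, eval₂_C]
    rfl
  · have h1 := RingHom.congr_fun hσ X
    rw [RingHom.comp_apply] at h1
    rw [h1]
    simp only [τ, coe_eval₂RingHom, eval₂_X]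
    rfl

end Groth.Agent.Sga7.H749.ResFrac
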