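import Groth.Agent.Sga7.H749.AffPts
import Groth.Agent.Sga7.H749.ResFrac
import Mathlib.RingTheory.FiniteType

/-!
# The stability argument

An additive one-parameter family of points in the special fibre of a smooth group scheme contradicts the existence
of an open immersion into a Néron model after a highly ramified extension.
-/

set_option autoImplicit false
universe u

open CategoryTheory MonoidalCategory CartesianMonoidalCategory MonObj GrpObj AlgebraicGeometry Limits

noncomputable section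

namespace Groth.Agent.Sga7.H749.Core

open Groth.Agent.Sga7.H749.DualLift Groth.Agent.Sga7.H749.Pts Groth.Agent.Sga7.H749.UStar
  Groth.Agent.Sga7.H749.Contra Groth.Agent.Sga7.H749.AffPts Groth.Agent.Sga7.H749.ResFrac
  Groth.Agent.Sga7.H749.LiftPt2 Groth.Agent.Sga7.H749.AnnThm Groth.Agent.Sga7.H749.EtaleRing

/-- An additive one-parameter family of points of `N`. -/
structure GaFam {R : Type u} [CommRing R] (N : Over (Spec (CommRingCat.of R))) [GrpObj N] {κ : Type u} [Field κ]
    (r : R →+* κ) where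
  /-- the points -/
  pt : ∀ {B : Type u} [CommRing B] (k : κ →+* B), B → (SpecH (k.comp r) ⟶ N)
  pt_add : ∀ {B : Type u} [CommRing B] (k : κ →+* B) (a b : B), pt k (a + b) = pt k a * pt k b
  pt_nat : ∀ {B C : Type u} [CommRing B] [CommRing C] (φ : B →+* C) (k : κ →+* B) (a : B),
    pmap φ (show φ.comp (k.comp r) = (φ.comp k).comp r from rfl) ≫ pt k a = pt (φ.comp k) (φ a)
  pt_inj : ∀ {B : Type u} [CommRing B] (k : κ →+* B) (a : B), pt k a = 1 → a = 0

variable {R : Type u} [CommRing R] {N : Over (Spec (CommRingCat.of R))} [GrpObj N] {κ : Type u} [Field κ]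
  {r : R →+* κ} (J : GaFam N r)

namespace GaFam

lemma pt_zero {B : Type u} [CommRing B] (k : κ →+* B) : J.pt k 0 = 1 := by
  have h := J.pt_add k 0 0
  rw [add_zero] at h
  exact (mul_eq_left.mp h.symm)

/-- the tangent vector. -/
abbrev tan : SpecH ((inlR κ).comp r) ⟶ N := J.pt (inlR κ) (TrivSqZeroExt.inr 1)

lemma tan_ne_one : J.tan ≠ 1 := by
  intro h
  have h1 := J.pt_inj _ _ h
  have h2 := congrArg TrivSqZeroExt.snd h1
  simp at h2

lemma fst_tan (h : (fstR κ).comp ((inlR κ).comp r) = r) : pmap (fstR κ) h ≫ J.tan = 1 := by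
  have h1 := J.pt_nat (fstR κ) (inlR κ) (TrivSqZeroExt.inr 1)
  have h2 : fstR κ (TrivSqZeroExt.inr 1) = 0 := by simp
  rw [h2, J.pt_zero] at h1
  exact h1

lemma tan_le {V : N.left.Opens} (hV : UnitIn N V) : ⊤ ≤ J.tan.left ⁻¹ᵁ V := by
  apply le_preimage_of_fst
  have h2 : Spec.map (CommRingCat.ofHom (fstR κ)) ≫ J.tan.left = (1 : SpecH r ⟶ N).left :=
    congrArg (fun x => x.left) (J.fst_tan rfl)
  rw [h2]
  exact hV κ r

end GaFam

/-- values of functions at equal points. -/
lemma ev_congr {X : Scheme.{u}} {V : X.Opens} {C : Type u} [CommRing C] {x y : Spec (CommRingCat.of C) ⟶ X}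
    (h : x = y) (hx : ⊤ ≤ x ⁻¹ᵁ V) (hy : ⊤ ≤ y ⁻¹ᵁ V) (f : Γ(X, V)) : ev x hx f = ev y hy f := by
  subst h; rfl

/-- values of functions at points mapped to each other. -/
lemma ev_map {V : N.left.Opens} {B C : Type u} [CommRing B] [CommRing C] {b : R →+* B} {c : R →+* C}
    (φ : B →+* C) (h : φ.comp b = c) (x : SpecH b ⟶ N) (y : SpecH c ⟶ N) (hxy : pmap φ h ≫ x = y)
    (hx : ⊤ ≤ x.left ⁻¹ᵁ V) (hy : ⊤ ≤ y.left ⁻¹ᵁ V) (f : Γ(N.left, V)) : ev y.left hy f = φ (ev x.left hx f) := by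
  have h1 : Spec.map (CommRingCat.ofHom φ) ≫ x.left = y.left := congrArg (fun z => z.left) hxy
  have h2 : ⊤ ≤ (Spec.map (CommRingCat.ofHom φ) ≫ x.left) ⁻¹ᵁ V := by rw [h1]; exact hy
  rw [← ev_comp φ x.left hx h2 f]
  exact ev_congr h1.symm hy h2 f

namespace GaFam

/-- a function with nonzero derivative along the family. -/
lemma exists_f₀ {V : N.left.Opens} (hVa : IsAffineOpen V) (hV : UnitIn N V) :
    ∃ f₀ : Γ(N.left, V), (ev J.tan.left (J.tan_le hV) f₀).snd ≠ 0 := by
  by_contra hcon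
  push Not at hcon
  apply J.tan_ne_one
  let one' : SpecH ((inlR κ).comp r) ⟶ N := 1
  let one₀ : SpecH r ⟶ N := 1
  have hone : ⊤ ≤ one'.left ⁻¹ᵁ V := hV (DualNumber κ) ((inlR κ).comp r)
  have hone₀ : ⊤ ≤ one₀.left ⁻¹ᵁ V := hV κ r
  have key : J.tan.left = one'.left := by
    refine ext_of_ev hVa (J.tan_le hV) hone fun f => ?_
    have e1 : ev one'.left hone f = inlR κ (ev one₀.left hone₀ f) :=
      ev_map (inlR κ) rfl one₀ one' (MonObj.comp_one _) hone₀ hone f
    have e2 : ev one₀.left hone₀ f = fstR κ (ev J.tan.left (J.tan_le hV) f) :=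
      ev_map (fstR κ) rfl J.tan one₀ (J.fst_tan rfl) (J.tan_le hV) hone₀ f
    ext
    · rw [e1, e2]; rfl
    · rw [e1, hcon f]; rfl
  ext1
  exact key

end GaFam

end Groth.Agent.Sga7.H749.Core
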