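import Groth.Agent.Sga7.H749.Core

/-!
# The stability argument, II
-/

set_option autoImplicit false
universe u

open CategoryTheory MonoidalCategory CartesianMonoidalCategory MonObj GrpObj AlgebraicGeometry Limits

noncomputable section

namespace Groth.Agent.Sga7.H749.Core2

open Groth.Agent.Sga7.H749.DualLift Groth.Agent.Sga7.H749.Pts Groth.Agent.Sga7.H749.UStar
  Groth.Agent.Sga7.H749.Contra Groth.Agent.Sga7.H749.AffPts Groth.Agent.Sga7.H749.ResFrac
  Groth.Agent.Sga7.H749.LiftPt2 Groth.Agent.Sga7.H749.AnnThm Groth.Agent.Sga7.H749.EtaleRing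
  Groth.Agent.Sga7.H749.Core

variable {R : Type u} [CommRing R] {N : Over (Spec (CommRingCat.of R))} [GrpObj N] {κ : Type u} [Field κ]
  {r : R →+* κ} (J : GaFam N r)

lemma pt_nat' {B C : Type u} [CommRing B] [CommRing C] (φ : B →+* C) (k : κ →+* B) (k' : κ →+* C)
    (hk : φ.comp k = k') (a : B) (h : φ.comp (k.comp r) = k'.comp r) :
    pmap φ h ≫ J.pt k a = J.pt k' (φ a) := by
  subst hk
  exact J.pt_nat φ k a

/-- the logarithmic derivative of the family. -/
lemma dlog_pt {B : Type u} [CommRing B] (k : κ →+* B) (z : B) (σ : B →+* DualNumber B)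
    (hσk : σ.comp k = (inlR B).comp k) (hz : σ z = TrivSqZeroExt.inl z + TrivSqZeroExt.inr 1)
    (h : σ.comp (k.comp r) = (inlR B).comp (k.comp r)) :
    dlog σ h (J.pt k z) = J.pt ((inlR B).comp k) (TrivSqZeroExt.inr 1) := by
  have e1 : pmap σ h ≫ J.pt k z = J.pt ((inlR B).comp k) (σ z) := pt_nat' J σ k _ hσk z h
  have e2 : pmap (inlR B) rfl ≫ J.pt k z = J.pt ((inlR B).comp k) (inlR B z) := pt_nat' J (inlR B) k _ rfl z rfl
  have e3 : J.pt ((inlR B).comp k) (σ z) =
      J.pt ((inlR B).comp k) (TrivSqZeroExt.inr 1) * J.pt ((inlR B).comp k) (inlR B z) := by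
    rw [← J.pt_add, hz, add_comm]
    rfl
  rw [dlog, e1, e2, e3]
  exact mul_inv_cancel_right _ _

lemma tan_nat {B : Type u} [CommRing B] (k : κ →+* B)
    (h : (mapR k).comp ((inlR κ).comp r) = ((inlR B).comp k).comp r) :
    pmap (mapR k) h ≫ J.tan = J.pt ((inlR B).comp k) (TrivSqZeroExt.inr 1) := by
  have e := pt_nat' J (mapR k) (inlR κ) ((inlR B).comp k) (mapR_comp_inlR k) (TrivSqZeroExt.inr 1) h
  have e2 : mapR k (TrivSqZeroExt.inr 1) = TrivSqZeroExt.inr 1 := by
    ext
    · simp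
    · simp
  rw [e2] at e
  exact e

/-- `κ → κ(X)` -/
abbrev kΩ (κ : Type u) [Field κ] : κ →+* FractionRing (Polynomial κ) :=
  (algebraMap (Polynomial κ) (FractionRing (Polynomial κ))).comp Polynomial.C

/-- `X ∈ κ(X)` -/
abbrev zΩ (κ : Type u) [Field κ] : FractionRing (Polynomial κ) :=
  algebraMap (Polynomial κ) (FractionRing (Polynomial κ)) Polynomial.X

/-- The data `f₀`, `c` (nonzero derivative along the family) and the generic point of the family in an affine open,
together with the finite set of elements which have to be rational. -/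
theorem exists_T [Smooth N.hom] (V : N.left.Opens) (hVa : IsAffineOpen V) (hV : UnitIn N V) :
    ∃ (f₀ : Γ(N.left, V)) (c : κ) (_ : c ≠ 0) (V' : N.left.Opens) (hVa' : IsAffineOpen V')
      (θ : Γ(N.left, V') →+* FractionRing (Polynomial κ)) (hθ : θ.comp (algS hVa') = (kΩ κ).comp r)
      (T : Finset κ),
      c = (ev J.tan.left (J.tan_le hV) f₀).snd ∧ ofHomPt hVa' θ hθ = J.pt (kΩ κ) (zΩ κ) ∧ c ∈ T ∧
      ∀ (R₁ : Type u) [CommRing R₁] [IsLocalRing R₁] (φ₁ : R₁ →+* κ) [IsLocalHom φ₁] (i : R →+* R₁),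
        φ₁.comp i = r → (∀ t ∈ T, t ∈ φ₁.range) → ∀ s, θ s ∈ (j₁ φ₁).range := by
  obtain ⟨f₀, hf₀⟩ := J.exists_f₀ hVa hV
  -- an affine open containing the generic point
  let θN : SpecH ((kΩ κ).comp r) ⟶ N := J.pt (kΩ κ) (zΩ κ)
  let pt₀ : Spec (CommRingCat.of (FractionRing (Polynomial κ))) := IsLocalRing.closedPoint _
  obtain ⟨V', hVa', hV'1, -⟩ := exists_isAffineOpen_mem_and_subset (X := N.left) (x := θN.left pt₀) (U := ⊤)
    trivial
  have hθV : ⊤ ≤ θN.left ⁻¹ᵁ V' := by
    intro p _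
    have hsub : Subsingleton (PrimeSpectrum (FractionRing (Polynomial κ))) := inferInstance
    have hp : p = pt₀ := @Subsingleton.elim _ hsub p pt₀
    rw [hp]
    exact hV'1
  let θ : Γ(N.left, V') →+* FractionRing (Polynomial κ) := ev θN.left hθV
  have hθ : θ.comp (algS hVa') = (kΩ κ).comp r := ev_comp_algS hVa' θN hθV
  -- generators
  let _ : Algebra R Γ(N.left, V') := (algS hVa').toAlgebra
  have hsm : (algS hVa').Smooth := smooth_algS hVa'
  have hft : Algebra.FiniteType R Γ(N.left, V') := by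
    have : Algebra.Smooth R Γ(N.left, V') := hsm
    infer_instance
  obtain ⟨gens, hgens⟩ := hft.out
  have hfrac : ∀ x : FractionRing (Polynomial κ), ∃ ab : Polynomial κ × Polynomial κ,
      x = algebraMap _ _ ab.1 / algebraMap _ _ ab.2 := by
    intro x
    obtain ⟨a, b, -, rfl⟩ := IsFractionRing.div_surjective (A := Polynomial κ) x
    exact ⟨(a, b), rfl⟩
  choose ab hab using hfrac
  classical
  let T : Finset κ := {(ev J.tan.left (J.tan_le hV) f₀).snd, 0} ∪
    gens.biUnion fun s => (ab (θ s)).1.coeffs ∪ (ab (θ s)).2.coeffs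
  refine ⟨f₀, _, hf₀, V', hVa', θ, hθ, T, rfl, ofHomPt_ev hVa' θN hθV, by simp [T], ?_⟩
  intro R₁ _ _ φ₁ _ i hi hT
  have hcoef : ∀ s ∈ gens, ∀ p : Polynomial κ, (p = (ab (θ s)).1 ∨ p = (ab (θ s)).2) →
      ∀ n, p.coeff n ∈ φ₁.range := by
    intro s hs p hp n
    by_cases h0 : p.coeff n = 0
    · rw [h0]; exact zero_mem _
    · apply hT
      have h1 : p.coeff n ∈ p.coeffs := Polynomial.coeff_mem_coeffs h0
      simp only [T, Finset.mem_union, Finset.mem_biUnion]
      right
      refine ⟨s, hs, ?_⟩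
      rcases hp with rfl | rfl
      · exact Or.inl h1
      · exact Or.inr h1
  intro s
  have hs : s ∈ Algebra.adjoin R (gens : Set Γ(N.left, V')) := by rw [hgens]; exact Algebra.mem_top
  induction hs using Algebra.adjoin_induction with
  | mem s hs =>
    rw [hab (θ s)]
    exact mem_range_j₁ φ₁ _ _ (hcoef s hs _ (Or.inl rfl)) (hcoef s hs _ (Or.inr rfl))
  | algebraMap a =>
    have h1 : θ (algebraMap R Γ(N.left, V') a) = kΩ κ (r a) := RingHom.congr_fun hθ a
    rw [h1, ← hi]
    refine ⟨lam R₁ (Polynomial.C (i a)), ?_⟩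
    rw [j₁_lam, Polynomial.map_C]
    rfl
  | add x y _ _ hx hy => rw [map_add]; exact add_mem hx hy
  | mul x y _ _ hx hy => rw [map_mul]; exact mul_mem hx hy

end Groth.Agent.Sga7.H749.Core2
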