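import Groth.Agent.Sga7.H749.StabCore
import Groth.Agent.Sga3B.GaPts

/-!
# The family of points given by a homomorphism from the additive group
-/

set_option autoImplicit false
universe u

open CategoryTheory MonoidalCategory CartesianMonoidalCategory MonObj GrpObj AlgebraicGeometry Limits

noncomputable section

namespace Groth.Agent.Sga7.H749.GaFamOf

open Groth.Agent.Sga7.H749.DualLift Groth.Agent.Sga7.H749.Pts Groth.Agent.Sga7.H749.UStar
  Groth.Agent.Sga7.H749.Contra Groth.Agent.Sga7.H749.Core Groth.Agent.Sga3B.BcPts Groth.Agent.Sga3B.GaPts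

section aff

variable {κ : Type u} [Field κ] {B C : Type u} [CommRing B] [CommRing C]

/-- the point of the additive group with coordinate `a`. -/
def aff (k : κ →+* B) (a : B) : SpecH k ⟶ Red.Ga (Spec (CommRingCat.of κ)) :=
  gaPt (SpecH k) ((Scheme.ΓSpecIso (CommRingCat.of B)).inv.hom a)

lemma aff_add (k : κ →+* B) (a b : B) : aff k (a + b) = aff k a * aff k b := by
  rw [aff, map_add]
  exact gaPt_add (SpecH k) _ _

lemma pmap_aff (φ : B →+* C) (k : κ →+* B) (a : B) : pmap φ rfl ≫ aff k a = aff (φ.comp k) (φ a) := by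
  rw [aff, comp_gaPt, aff]
  congr 1
  exact congr($((Scheme.ΓSpecIso_inv_naturality (CommRingCat.ofHom φ)).symm) a)

lemma aff_eq_one (k : κ →+* B) (a : B) (h : aff k a = 1) : a = 0 := by
  have h1 : Red.gaFn (aff k a) = 0 := by rw [h, gaFn_one]
  rw [aff, gaFn_gaPt] at h1
  have h2 := congrArg (Scheme.ΓSpecIso (CommRingCat.of B)).hom.hom h1
  rw [map_zero] at h2
  have h3 : (Scheme.ΓSpecIso (CommRingCat.of B)).hom.hom ((Scheme.ΓSpecIso (CommRingCat.of B)).inv.hom a) = a :=
    congr($((Scheme.ΓSpecIso (CommRingCat.of B)).inv_hom_id) a)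
  rw [h3] at h2
  exact h2

end aff

variable {R : Type u} [CommRing R] {N : Over (Spec (CommRingCat.of R))} [GrpObj N] {κ : Type u} [Field κ]
  (r : R →+* κ)

/-- the family of points given by a homomorphism `Ga ⟶ N_κ`. -/
def gaFam (j : Red.Ga (Spec (CommRingCat.of κ)) ⟶ Red.bc (Spec.map (CommRingCat.ofHom r)) N) [IsMonHom j]
    [Mono j] : GaFam N r where
  pt k a := (mapIso r k rfl).inv ≫ (bcEquiv (Spec.map (CommRingCat.ofHom r)) (SpecH k) N).symm (aff k a ≫ j)
  pt_add k a b := by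
    rw [aff_add, MonObj.mul_comp]
    have h := (bcMulEquiv (Spec.map (CommRingCat.ofHom r)) (SpecH k) N).symm.map_mul (aff k a ≫ j) (aff k b ≫ j)
    change (mapIso r k rfl).inv ≫ (bcMulEquiv (Spec.map (CommRingCat.ofHom r)) (SpecH k) N).symm _ = _
    rw [h, MonObj.comp_mul]
    rfl
  pt_nat {B C} _ _ φ k a := by
    have h1 := comp_bcEquiv_symm (Spec.map (CommRingCat.ofHom r)) (pmap φ rfl) (aff k a ≫ j)
    have h2 : pmap φ rfl ≫ aff k a ≫ j = aff (φ.comp k) (φ a) ≫ j := by
      rw [← Category.assoc, pmap_aff]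
    rw [h2] at h1
    rw [h1, ← Category.assoc, ← Category.assoc]
    congr 1
  pt_inj k a h := by
    have h1 : (bcEquiv (Spec.map (CommRingCat.ofHom r)) (SpecH k) N).symm (aff k a ≫ j) = 1 := by
      rw [← cancel_epi (mapIso r k rfl).inv, h, MonObj.comp_one]
    have h2 : aff k a ≫ j = 1 := by
      rw [Equiv.symm_apply_eq] at h1
      rw [h1, bcEquiv_one]
    have h3 : aff k a = 1 := by
      rw [← cancel_mono j, h2, MonObj.one_comp]
    exact aff_eq_one k a h3

/-- Over a local ring an open neighbourhood of the value of the unit section at the closed point contains all the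
unit section. -/
lemma unitIn_of_local [IsLocalRing R] (V : N.left.Opens)
    (h : (η[N] : 𝟙_ _ ⟶ N).left (IsLocalRing.closedPoint R) ∈ V) : UnitIn N V := by
  intro B _ b p _
  have h1 : (1 : SpecH b ⟶ N) = toUnit _ ≫ η[N] := rfl
  rw [h1]
  change (η[N] : 𝟙_ _ ⟶ N).left ((toUnit (SpecH b)).left p) ∈ V
  have h2 : (η[N] : 𝟙_ _ ⟶ N).left ⁻¹ᵁ V = ⊤ := by
    apply (IsLocalRing.closed_point_mem_iff (U := (η[N] : 𝟙_ _ ⟶ N).left ⁻¹ᵁ V)).mp
    exact h
  have h3 : (toUnit (SpecH b)).left p ∈ (η[N] : 𝟙_ _ ⟶ N).left ⁻¹ᵁ V := by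
    rw [h2]; trivial
  exact h3

end Groth.Agent.Sga7.H749.GaFamOf
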