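import Groth.Agent.Sga7.H749.GaFamOf
import Groth.Prelude.Def_SGA7IX
import Groth.Agent.Sga3B.Pts
import Groth.Agent.Sga3B.BcIso
import Mathlib.AlgebraicGeometry.Morphisms.Proper
import Mathlib.AlgebraicGeometry.Morphisms.Finite
import Mathlib.RingTheory.LocalRing.ResidueField.Ideal

/-!
# Geometric points of the spectrum of a ring and the geometric fibres of a group scheme

The generic fibre case of S4069 and the passage from a closed subgroup `Ga` of a geometric fibre to a family of points.
-/

set_option autoImplicit false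
universe u

open CategoryTheory MonoidalCategory CartesianMonoidalCategory MonObj GrpObj AlgebraicGeometry Limits

noncomputable section

namespace Groth.Agent.Sga7.H749.GeomPts

open Groth.Agent.Sga7.H749.Core Groth.Agent.Sga7.H749.GaFamOf Groth.Agent.Sga3B.GaPts

/-- The additive group over an infinite field is not finite. -/
theorem not_isFinite_ga (k : Type u) [Field k] [Infinite k] :
    ¬ IsFinite (Red.Ga (Spec (CommRingCat.of k))).hom := by
  intro hfin
  let G := Red.Ga (Spec (CommRingCat.of k))
  have haff : IsAffine G.left := isAffine_of_isAffineHom G.hom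
  have h1 : (G.hom.appTop).hom.Finite := by
    have := hfin.finite_app (⊤ : (Spec (CommRingCat.of k)).Opens) (isAffineOpen_top _)
    exact this
  let t : Γ(G.left, ⊤) := Red.gaFn (𝟙 G)
  obtain ⟨P, hP, hPt⟩ := h1.to_isIntegral t
  -- evaluation at the rational points
  have h2 : ∀ c : Γ(Spec (CommRingCat.of k), ⊤), P.eval c = 0 := by
    intro c
    let x : 𝟙_ (Over (Spec (CommRingCat.of k))) ⟶ G := gaPt (𝟙_ _) c
    have h3 : x.left.appTop t = c := by
      rw [← gaFn_comp, Category.comp_id, gaFn_gaPt]
    have h4 : (x.left.appTop.hom.comp G.hom.appTop.hom) = RingHom.id _ := by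
      have h5 : x.left ≫ G.hom = 𝟙 _ := Over.w x
      have h6 := congrArg Scheme.Hom.appTop h5
      rw [Scheme.Hom.comp_appTop] at h6
      exact congrArg CommRingCat.Hom.hom h6
    have h7 := congrArg x.left.appTop.hom hPt
    rw [Polynomial.hom_eval₂, h4, map_zero] at h7
    have h8 : x.left.appTop.hom t = c := h3
    rw [h8] at h7
    exact h7
  let ε : k ≃+* Γ(Spec (CommRingCat.of k), ⊤) :=
    (Scheme.ΓSpecIso (CommRingCat.of k)).symm.commRingCatIsoToRingEquiv
  have : Infinite Γ(Spec (CommRingCat.of k), ⊤) := Infinite.of_injective ε ε.injective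
  have : IsDomain Γ(Spec (CommRingCat.of k), ⊤) :=
    MulEquiv.isDomain k ε.symm.toMulEquiv
  have h9 : P = 0 := Polynomial.funext fun c => by rw [h2, Polynomial.eval_zero]
  exact hP.ne_zero h9

instance isAffineHom_ga {S : Scheme.{u}} : IsAffineHom (Red.Ga S).hom := by
  have h : IsAffineHom (Red.GaZ.{u}).hom := by
    change IsAffineHom (Spec.map _)
    infer_instance
  exact MorphismProperty.pullback_snd _ _ h

/-- A proper group over a field has unipotent rank zero. -/
theorem fibreUnipotentRankZero_of_isProper {S : Scheme.{u}} (s : S) (G : Over S) [GrpObj G]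
    (h : IsProper (Red.geomFibre s G).hom) : SGA7.FibreUnipotentRankZero s G := by
  intro j _ hcl
  have h1 : IsProper (Red.Ga (Spec (CommRingCat.of (AlgebraicClosure (S.residueField s))))).hom := by
    rw [← Over.w j]
    infer_instance
  have h2 : IsFinite (Red.Ga (Spec (CommRingCat.of (AlgebraicClosure (S.residueField s))))).hom :=
    (IsFinite.iff_isProper_and_isAffineHom).2 ⟨h1, inferInstance⟩
  exact not_isFinite_ga _ h2

section geomPt

variable {R : Type u} [CommRing R] (s : Spec (CommRingCat.of R))

/-- the ring homomorphism of the geometric point over `s`. -/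
def rOf : R →+* AlgebraicClosure ((Spec (CommRingCat.of R)).residueField s) :=
  (algebraMap ((Spec (CommRingCat.of R)).residueField s) (AlgebraicClosure _)).comp
    ((Scheme.Spec.residueFieldIso (CommRingCat.of R) s).inv.hom.comp (algebraMap R s.asIdeal.ResidueField))

lemma geomPt_eq : Red.geomPt s = Spec.map (CommRingCat.ofHom (rOf s)) := by
  rw [Red.geomPt, ← Scheme.Spec.map_residueFieldIso_inv_eq_fromSpecResidueField, ← Spec.map_comp, ← Spec.map_comp]
  rfl

lemma ker_rOf : RingHom.ker (rOf s) = s.asIdeal := by
  have h1 : Function.Injective ((Scheme.Spec.residueFieldIso (CommRingCat.of R) s).inv.hom) :=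
    (Scheme.Spec.residueFieldIso (CommRingCat.of R) s).symm.commRingCatIsoToRingEquiv.injective
  let κ₀ := (Spec (CommRingCat.of R)).residueField s
  have h2 : Function.Injective (fun y : s.asIdeal.ResidueField =>
      (algebraMap κ₀ (AlgebraicClosure κ₀))
        ((Scheme.Spec.residueFieldIso (CommRingCat.of R) s).inv.hom y)) :=
    (algebraMap κ₀ (AlgebraicClosure κ₀)).injective.comp h1
  ext x
  have h3 : rOf s x = 0 ↔ algebraMap R s.asIdeal.ResidueField x = 0 := by
    constructor
    · intro h
      apply h2
      refine h.trans ?_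
      change 0 = algebraMap κ₀ (AlgebraicClosure κ₀)
        ((Scheme.Spec.residueFieldIso (CommRingCat.of R) s).inv.hom 0)
      rw [map_zero, map_zero]
    · intro h
      change algebraMap κ₀ (AlgebraicClosure κ₀)
        ((Scheme.Spec.residueFieldIso (CommRingCat.of R) s).inv.hom (algebraMap R s.asIdeal.ResidueField x)) = 0
      rw [h, map_zero, map_zero]
  rw [RingHom.mem_ker, h3]
  exact Ideal.algebraMap_residueField_eq_zero

/-- Over a closed point the geometric residue field is algebraic over the base ring. -/
lemma exists_monic [s.asIdeal.IsMaximal] (x : AlgebraicClosure ((Spec (CommRingCat.of R)).residueField s)) :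
    ∃ p : Polynomial R, p.Monic ∧ p.eval₂ (rOf s) x = 0 := by
  let r₀ : R →+* (Spec (CommRingCat.of R)).residueField s :=
    (Scheme.Spec.residueFieldIso (CommRingCat.of R) s).inv.hom.comp (algebraMap R s.asIdeal.ResidueField)
  have hs : Function.Surjective r₀ :=
    (Scheme.Spec.residueFieldIso (CommRingCat.of R) s).symm.commRingCatIsoToRingEquiv.surjective.comp
      (Ideal.algebraMap_residueField_surjective s.asIdeal)
  obtain ⟨p, hp, hpx⟩ := Algebra.IsIntegral.isIntegral (R := (Spec (CommRingCat.of R)).residueField s) x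
  obtain ⟨q, hq1, -, hq3⟩ := Polynomial.lifts_and_natDegree_eq_and_monic
    (Polynomial.mem_lifts_of_surjective hs p) hp
  refine ⟨q, hq3, ?_⟩
  have h1 : q.eval₂ (rOf s) x = (q.map r₀).eval₂ (algebraMap _ _) x := by
    rw [Polynomial.eval₂_map]
    rfl
  rw [h1, hq1]
  exact hpx

end geomPt

/-- The family of points given by `Ga` in a fibre. -/
lemma nonempty_gaFam {R : Type u} [CommRing R] {N : Over (Spec (CommRingCat.of R))} [GrpObj N] {κ : Type u}
    [Field κ] (r : R →+* κ) (f : Spec (CommRingCat.of κ) ⟶ Spec (CommRingCat.of R))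
    (hf : f = Spec.map (CommRingCat.ofHom r)) (j : Red.Ga (Spec (CommRingCat.of κ)) ⟶ Red.bc f N)
    (hj : IsMonHom j) (hm : Mono j) : Nonempty (GaFam N r) := by
  subst hf
  exact ⟨gaFam r j⟩

/-- Properness of a base change along a composition. -/
lemma isProper_snd_comp {X Y Z W : Scheme.{u}} (f : X ⟶ Y) (g : Z ⟶ Y) (k : W ⟶ Z)
    (h : IsProper (pullback.snd f g)) : IsProper (pullback.snd f (k ≫ g)) := by
  have h6 : IsPullback (pullback.snd f (k ≫ g)) (pullback.lift (pullback.fst f (k ≫ g)) (pullback.snd f (k ≫ g) ≫ k)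
      (by rw [Category.assoc, pullback.condition])) k (pullback.snd f g) := by
    refine IsPullback.of_bot ?_ ?_ (IsPullback.of_hasPullback f g).flip
    · rw [pullback.lift_fst]
      exact (IsPullback.of_hasPullback f (k ≫ g)).flip
    · rw [pullback.lift_snd]
  exact MorphismProperty.of_isPullback h6.flip h

/-- Properness of a base change. -/
lemma isProper_bc {S S' S'' : Scheme.{u}} (N : Over S) (g : S' ⟶ S) (k : S'' ⟶ S') (t : S'' ⟶ S) (ht : t = k ≫ g)
    (h : IsProper (Red.bc g N).hom) : IsProper (Red.bc t N).hom := by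
  subst ht
  exact isProper_snd_comp N.hom g k h

/-- A ring homomorphism with trivial kernel extends to the fraction field. -/
lemma exists_frac_lift {R K κ : Type u} [CommRing R] [IsDomain R] [Field K] [Algebra R K] [IsFractionRing R K]
    [Field κ] (r : R →+* κ) (hr : RingHom.ker r = ⊥) : ∃ k : K →+* κ, k.comp (algebraMap R K) = r := by
  have hinj : Function.Injective r := (RingHom.injective_iff_ker_eq_bot r).mpr hr
  exact ⟨IsFractionRing.lift hinj, RingHom.ext fun x => IsFractionRing.lift_algebraMap hinj x⟩

/-- The generic fibre case. -/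
theorem generic {R K : Type u} [CommRing R] [IsDomain R] [Field K] [Algebra R K] [IsFractionRing R K]
    (N : Over (Spec (CommRingCat.of R))) [GrpObj N] (hp : IsProper ((SGA7.genFib R K).obj N).hom)
    (s : Spec (CommRingCat.of R)) (hs : s.asIdeal = ⊥) : SGA7.FibreUnipotentRankZero s N := by
  apply fibreUnipotentRankZero_of_isProper
  obtain ⟨k, hk⟩ := exists_frac_lift (K := K) (rOf s) ((ker_rOf s).trans hs)
  refine isProper_bc N (Spec.map (CommRingCat.ofHom (algebraMap R K))) (Spec.map (CommRingCat.ofHom k))
    (Red.geomPt s) ?_ hp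
  rw [geomPt_eq, ← hk, CommRingCat.ofHom_comp, Spec.map_comp]

end Groth.Agent.Sga7.H749.GeomPts
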