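import Mathlib.RingTheory.Unramified.LocalStructure
import Groth.Agent.Sga7.H749.EtaleRing
import Groth.Agent.Sga7.H749.DualLift

/-!
# Lifting a point with values in the residue field of a Gauss valuation

Étale coordinates of a smooth algebra at a point and the étale algebra over `R₁[z][1/q]` obtained by lifting the
coordinates.
-/

set_option autoImplicit false
universe u v w x

open Polynomial TrivSqZeroExt

noncomputable section

namespace Groth.Agent.Sga7.H749.LiftPt

open Groth.Agent.Sga7.H749.DualLift Groth.Agent.Sga7.H749.EtaleRing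

/-- Étale coordinates at a point, in terms of a universal property. -/
theorem exists_coords {R S κ : Type u} [CommRing R] [CommRing S] [Algebra R S] [Algebra.Smooth R S] [Field κ]
    (θ : S →+* κ) :
    ∃ (n : ℕ) (F G : (MvPolynomial (Fin n) R)[X]) (ξ : Fin n → κ) (y₀ : κ),
      eval₂ (MvPolynomial.eval₂Hom (θ.comp (algebraMap R S)) ξ) y₀ F = 0 ∧
      eval₂ (MvPolynomial.eval₂Hom (θ.comp (algebraMap R S)) ξ) y₀ (derivative F) ≠ 0 ∧
      eval₂ (MvPolynomial.eval₂Hom (θ.comp (algebraMap R S)) ξ) y₀ G ≠ 0 ∧
      ∀ (T : Type u) [CommRing T] (i : R →+* T) (ξ' : Fin n → T) (y' : T),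
        eval₂ (MvPolynomial.eval₂Hom i ξ') y' F = 0 → IsUnit (eval₂ (MvPolynomial.eval₂Hom i ξ') y' G) →
        ∃ p : S →+* T, p.comp (algebraMap R S) = i ∧
          ∀ π : T →+* κ, π.comp i = θ.comp (algebraMap R S) → (∀ j, π (ξ' j) = ξ j) → π y' = y₀ → π.comp p = θ := by
  have : (RingHom.ker θ).IsPrime := RingHom.ker_isPrime θ
  have : Algebra.IsSmoothAt R (RingHom.ker θ) := inferInstance
  obtain ⟨f, hf, n, _, hst, hse⟩ :=
    Algebra.IsSmoothAt.exists_isStandardEtale_mvPolynomial (R := R) (p := RingHom.ker θ)
  obtain ⟨P⟩ := hse.nonempty_standardEtalePresentation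
  have hθf : IsUnit (θ f) := isUnit_iff_ne_zero.mpr hf
  let θ' : Localization.Away f →+* κ := IsLocalization.Away.lift f hθf
  have hθ' : θ'.comp (algebraMap S (Localization.Away f)) = θ := IsLocalization.Away.lift_comp f hθf
  let A := MvPolynomial (Fin n) R
  let ξ : Fin n → κ := fun j => θ' (algebraMap A (Localization.Away f) (MvPolynomial.X j))
  have hA : θ'.comp (algebraMap A (Localization.Away f)) =
      MvPolynomial.eval₂Hom (θ.comp (algebraMap R S)) ξ := by
    refine MvPolynomial.ringHom_ext (fun r => ?_) (fun j => ?_)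
    · rw [MvPolynomial.eval₂Hom_C, RingHom.comp_apply]
      have h1 : algebraMap A (Localization.Away f) (MvPolynomial.C r) =
          algebraMap S (Localization.Away f) (algebraMap R S r) := by
        rw [← IsScalarTower.algebraMap_apply R S (Localization.Away f),
          IsScalarTower.algebraMap_apply R A (Localization.Away f)]
        rfl
      rw [h1]
      exact RingHom.congr_fun hθ' _
    · rw [MvPolynomial.eval₂Hom_X']
      rfl
  refine ⟨n, P.f, P.g, ξ, θ' P.x, ?_, ?_, ?_, ?_⟩
  · rw [← hA, ← hom_eval₂, ← aeval_def, P.hasMap.1, map_zero]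
  · rw [← hA, ← hom_eval₂, ← aeval_def]
    exact (P.hasMap.isUnit_derivative_f.map θ').ne_zero
  · rw [← hA, ← hom_eval₂, ← aeval_def]
    exact (P.hasMap.2.map θ').ne_zero
  · intro T _ i ξ' y' h1 h2
    let _ : Algebra A T := (MvPolynomial.eval₂Hom i ξ').toAlgebra
    have hmap : P.HasMap y' := ⟨h1, h2⟩
    let g : Localization.Away f →ₐ[A] T := (P.P.lift y' hmap).comp P.equivRing.toAlgHom
    have hgx : g P.x = y' := by
      change P.P.lift y' hmap (P.equivRing P.x) = y'
      rw [P.equivRing_x, P.P.lift_X]
    have hgA : ∀ a : A, g (algebraMap A (Localization.Away f) a) = MvPolynomial.eval₂Hom i ξ' a :=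
      fun a => g.commutes a
    refine ⟨(g : Localization.Away f →+* T).comp (algebraMap S (Localization.Away f)), ?_, ?_⟩
    · ext r
      change g (algebraMap S (Localization.Away f) (algebraMap R S r)) = i r
      have h1 : algebraMap S (Localization.Away f) (algebraMap R S r) =
          algebraMap A (Localization.Away f) (MvPolynomial.C r) := by
        rw [← IsScalarTower.algebraMap_apply R S (Localization.Away f),
          IsScalarTower.algebraMap_apply R A (Localization.Away f)]
        rfl
      rw [h1, hgA, MvPolynomial.eval₂Hom_C]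
    · intro π hπi hπξ hπy
      have key : π.comp (g : Localization.Away f →+* T) = θ' := by
        let _ : Algebra A κ := (MvPolynomial.eval₂Hom (θ.comp (algebraMap R S)) ξ).toAlgebra
        have hcomm : ∀ a : A, π (MvPolynomial.eval₂Hom i ξ' a) =
            MvPolynomial.eval₂Hom (θ.comp (algebraMap R S)) ξ a := by
          intro a
          have : π.comp (MvPolynomial.eval₂Hom i ξ') = MvPolynomial.eval₂Hom (θ.comp (algebraMap R S)) ξ := by
            refine MvPolynomial.ringHom_ext (fun r => ?_) (fun j => ?_)
            · rw [RingHom.comp_apply, MvPolynomial.eval₂Hom_C, MvPolynomial.eval₂Hom_C, ← hπi]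
              rfl
            · rw [RingHom.comp_apply, MvPolynomial.eval₂Hom_X', MvPolynomial.eval₂Hom_X', hπξ]
          exact RingHom.congr_fun this a
        let g₁ : Localization.Away f →ₐ[A] κ :=
          { π.comp (g : Localization.Away f →+* T) with
            commutes' := fun a => (congrArg π (hgA a)).trans (hcomm a) }
        let g₂ : Localization.Away f →ₐ[A] κ :=
          { θ' with commutes' := fun a => RingHom.congr_fun hA a }
        have h3 : g₁ = g₂ := P.hom_ext (by
          change π (g P.x) = θ' P.x
          rw [hgx, hπy])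
        exact congrArg (fun h : Localization.Away f →ₐ[A] κ => (h : Localization.Away f →+* κ)) h3
      rw [← RingHom.comp_assoc, key, hθ']

end Groth.Agent.Sga7.H749.LiftPt
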