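import Groth.Agent.Sga7.H749.LiftPt
import Groth.Agent.Sga7.H749.AnnThm

/-!
# Lifting a point with values in the residue field of a Gauss valuation, II
-/

set_option autoImplicit false
universe u v w x

open Polynomial TrivSqZeroExt

noncomputable section

namespace Groth.Agent.Sga7.H749.LiftPt2

open Groth.Agent.Sga7.H749.DualLift Groth.Agent.Sga7.H749.EtaleRing Groth.Agent.Sga7.H749.AnnMain
  Groth.Agent.Sga7.H749.AnnThm Groth.Agent.Sga7.H749.LiftPt

section Frac

variable {R₁ κ₁ : Type u} [CommRing R₁] [Field κ₁] (lam : R₁[X] →+* κ₁)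

/-- every element of `κ₁` is a fraction with monic denominator. -/
def Fracs : Prop := ∀ x : κ₁, ∃ a q : R₁[X], q.Monic ∧ lam q ≠ 0 ∧ x * lam q = lam a

lemma exists_common (h : Fracs lam) {ι : Type*} (s : Finset ι) (x : ι → κ₁) :
    ∃ q : R₁[X], q.Monic ∧ lam q ≠ 0 ∧ ∀ j ∈ s, ∃ a, x j * lam q = lam a := by
  classical
  induction s using Finset.induction_on with
  | empty => exact ⟨1, monic_one, by rw [map_one]; exact one_ne_zero, by simp⟩
  | insert j s hj ih =>
    obtain ⟨q, hq, hq0, hx⟩ := ih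
    obtain ⟨a, q', hq', hq'0, hx'⟩ := h (x j)
    refine ⟨q * q', hq.mul hq', by rw [map_mul]; exact mul_ne_zero hq0 hq'0, ?_⟩
    intro l hl
    rcases Finset.mem_insert.mp hl with rfl | hl
    · exact ⟨q * a, by rw [map_mul, map_mul, ← hx']; ring⟩
    · obtain ⟨b, hb⟩ := hx l hl
      exact ⟨b * q', by rw [map_mul, map_mul, ← hb]; ring⟩

variable (q : R₁[X]) (hq : lam q ≠ 0)

/-- the extension of `lam` to the localization. -/
def lamQ : Localization.Away q →+* κ₁ := IsLocalization.Away.lift q (isUnit_iff_ne_zero.mpr hq)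

lemma lamQ_algebraMap (a : R₁[X]) : lamQ lam q hq (algebraMap _ _ a) = lam a :=
  IsLocalization.Away.lift_eq q (isUnit_iff_ne_zero.mpr hq) a

lemma exists_lamQ_eq {x : κ₁} (h : ∃ a, x * lam q = lam a) : ∃ b, lamQ lam q hq b = x := by
  obtain ⟨a, ha⟩ := h
  refine ⟨algebraMap _ _ a * IsLocalization.Away.invSelf q, ?_⟩
  have h1 := congrArg (lamQ lam q hq) (IsLocalization.Away.mul_invSelf (S := Localization.Away q) q)
  rw [map_mul, map_one, lamQ_algebraMap] at h1
  rw [map_mul, lamQ_algebraMap, ← ha, mul_assoc, h1, mul_one]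

lemma exists_of_lamQ_eq_zero (ϖ : R₁) (hker : ∀ a, lam a = 0 → ∃ b, a = C ϖ * b) {x : Localization.Away q}
    (hx : lamQ lam q hq x = 0) : ∃ y, x = algebraMap R₁[X] _ (C ϖ) * y := by
  obtain ⟨n, a, ha⟩ := IsLocalization.Away.surj q x
  have h1 := congrArg (lamQ lam q hq) ha
  rw [map_mul, hx, zero_mul, lamQ_algebraMap] at h1
  obtain ⟨b, hb⟩ := hker a h1.symm
  refine ⟨algebraMap _ _ b * IsLocalization.Away.invSelf q ^ n, ?_⟩
  calc x = x * algebraMap R₁[X] _ q ^ n * IsLocalization.Away.invSelf q ^ n := by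
        rw [mul_assoc, ← mul_pow, IsLocalization.Away.mul_invSelf, one_pow, mul_one]
    _ = _ := by rw [ha, hb, map_mul, mul_assoc]

end Frac

/-- Lifting a point: see the module docstring. -/
theorem exists_lift {R S R₁ κ₁ : Type u} [CommRing R] [CommRing S] [Algebra R S] [Algebra.Smooth R S]
    [CommRing R₁] [Field κ₁] (i : R →+* R₁) (lam : R₁[X] →+* κ₁) (ϖ : R₁)
    (hker : ∀ a, lam a = 0 → ∃ b, a = C ϖ * b) (hfr : Fracs lam) (θ : S →+* κ₁) (hθ : θ.comp (algebraMap R S) = (lam.comp C).comp i) :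
    ∃ (q : R₁[X]) (_ : q.Monic) (P : EtPair (Localization.Away q)) (F₀ F₁ G₀ : Localization.Away q),
      P.f.coeff 0 = algebraMap R₁[X] _ (C ϖ) * F₀ ∧
      P.f.coeff 1 = 1 + algebraMap R₁[X] _ (C ϖ) * F₁ ∧
      P.g.coeff 0 = 1 + algebraMap R₁[X] _ (C ϖ) * G₀ ∧
      ∃ (p : S →+* P.Ring) (ρ : P.Ring →+* κ₁), p.comp (algebraMap R S) = ((cst q P).comp C).comp i ∧
        ρ.comp (cst q P) = lam ∧ ρ P.X = 0 ∧ ρ.comp p = θ ∧
        ∀ b, ρ b = 0 → ∃ a₁ a₂, b = cst q P (C ϖ) * a₁ + P.X * a₂ := by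
  obtain ⟨n, F, G, ξ, y₀, hF, hF', hG, hU⟩ := exists_coords (R := R) θ
  let ev := MvPolynomial.eval₂Hom (θ.comp (algebraMap R S)) ξ
  -- the elements to be lifted
  let fam : Fin n ⊕ Fin 3 → κ₁ := Sum.elim ξ ![y₀, (eval₂ ev y₀ (derivative F))⁻¹, (eval₂ ev y₀ G)⁻¹]
  obtain ⟨q, hqm, hq0, hfam⟩ := exists_common lam hfr Finset.univ fam
  have hfam' : ∀ j, ∃ b, lamQ lam q hq0 b = fam j := fun j => exists_lamQ_eq lam q hq0 (hfam j (Finset.mem_univ j))
  choose l hl using hfam'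
  let Q := Localization.Away q
  let lQ : Q →+* κ₁ := lamQ lam q hq0
  let iQ : R →+* Q := ((algebraMap R₁[X] Q).comp C).comp i
  have hiQ : lQ.comp iQ = θ.comp (algebraMap R S) := by
    rw [hθ]
    ext r
    exact lamQ_algebraMap lam q hq0 _
  let ξ' : Fin n → Q := fun j => l (Sum.inl j)
  have hξ' : ∀ j, lQ (ξ' j) = ξ j := fun j => hl (Sum.inl j)
  let y' : Q := l (Sum.inr 0)
  have hy' : lQ y' = y₀ := hl (Sum.inr 0)
  let v : Q := l (Sum.inr 1)
  have hv : lQ v = (eval₂ ev y₀ (derivative F))⁻¹ := hl (Sum.inr 1)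
  let w : Q := l (Sum.inr 2)
  have hw : lQ w = (eval₂ ev y₀ G)⁻¹ := hl (Sum.inr 2)
  let evQ : MvPolynomial (Fin n) R →+* Q := MvPolynomial.eval₂Hom iQ ξ'
  have hevQ : lQ.comp evQ = ev := by
    refine MvPolynomial.ringHom_ext (fun r => ?_) (fun j => ?_)
    · rw [RingHom.comp_apply, MvPolynomial.eval₂Hom_C, MvPolynomial.eval₂Hom_C, ← hiQ]
      rfl
    · rw [RingHom.comp_apply, MvPolynomial.eval₂Hom_X', MvPolynomial.eval₂Hom_X', hξ']
  -- the new equations
  let FQ : Q[X] := (F.map evQ).comp (C y' + X)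
  let GQ : Q[X] := (G.map evQ).comp (C y' + X)
  have hFQ0 : ∀ H : (MvPolynomial (Fin n) R)[X], lQ (((H.map evQ).comp (C y' + X)).coeff 0) = eval₂ ev y₀ H := by
    intro H
    rw [coeff_zero_eq_eval_zero, eval_comp, eval_add, eval_C, eval_X, add_zero, eval_map, hom_eval₂, hevQ, hy']
  let f₁ : Q := (((derivative F).map evQ).comp (C y' + X)).coeff 0
  have hf₁ : lQ f₁ = eval₂ ev y₀ (derivative F) := hFQ0 _
  have hder : derivative FQ = ((derivative F).map evQ).comp (C y' + X) := by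
    rw [derivative_comp, derivative_add, derivative_C, derivative_X, zero_add, one_mul, derivative_map]
  let f : Q[X] := C v * FQ
  let g : Q[X] := derivative f * (C (v * f₁) * (C w * GQ))
  let P : EtPair Q := ⟨f, g, C (v * f₁) * (C w * GQ), 0, 1, by ring⟩
  have hcoef1 : f.coeff 1 = v * f₁ := by
    have h1 : (derivative f).coeff 0 = f.coeff 1 := by rw [coeff_derivative]; simp
    rw [← h1, derivative_C_mul, hder, coeff_C_mul]
  have hvf : lQ (v * f₁) = 1 := by rw [map_mul, hv, hf₁, inv_mul_cancel₀ hF']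
  have hf0 : lQ (f.coeff 0) = 0 := by
    rw [coeff_C_mul, map_mul, hFQ0, hF, mul_zero]
  have hf1 : lQ (f.coeff 1 - 1) = 0 := by
    rw [map_sub, hcoef1, hvf, map_one, sub_self]
  have hg0 : lQ (g.coeff 0 - 1) = 0 := by
    have h1 : (derivative f).coeff 0 = f.coeff 1 := by rw [coeff_derivative]; simp
    have h2 : g.coeff 0 = (v * f₁) * ((v * f₁) * (w * GQ.coeff 0)) := by
      rw [mul_coeff_zero, h1, hcoef1, coeff_C_mul, coeff_C_mul]
    have h3 : lQ (w * GQ.coeff 0) = 1 := by rw [map_mul, hw, hFQ0, inv_mul_cancel₀ hG]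
    rw [map_sub, h2, map_mul lQ (v * f₁), map_mul lQ (v * f₁), hvf, h3, map_one]
    ring
  obtain ⟨F₀, hF₀⟩ := exists_of_lamQ_eq_zero lam q hq0 ϖ hker hf0
  obtain ⟨F₁, hF₁⟩ := exists_of_lamQ_eq_zero lam q hq0 ϖ hker hf1
  obtain ⟨G₀, hG₀⟩ := exists_of_lamQ_eq_zero lam q hq0 ϖ hker hg0
  -- the point of the étale algebra
  let aQ : Q →+* P.Ring := algebraMap Q P.Ring
  have hX := EtPair.hasMap_X (P := P)
  have hgX : IsUnit (aeval P.X g) := hX.2
  have hfX : aeval P.X f = 0 := hX.1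
  have hevX : ∀ H : (MvPolynomial (Fin n) R)[X], aeval P.X ((H.map evQ).comp (C y' + X)) =
      eval₂ (MvPolynomial.eval₂Hom (aQ.comp iQ) (fun j => aQ (ξ' j))) (aQ y' + P.X) H := by
    intro H
    rw [aeval_def, eval₂_comp, eval₂_add, eval₂_C, eval₂_X, eval₂_map]
    have : (algebraMap Q P.Ring).comp evQ = MvPolynomial.eval₂Hom (aQ.comp iQ) (fun j => aQ (ξ' j)) := by
      refine MvPolynomial.ringHom_ext (fun r => ?_) (fun j => ?_)
      · rw [RingHom.comp_apply, MvPolynomial.eval₂Hom_C, MvPolynomial.eval₂Hom_C]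
        rfl
      · rw [RingHom.comp_apply, MvPolynomial.eval₂Hom_X', MvPolynomial.eval₂Hom_X']
    rw [this]
  have hu1 : IsUnit (aeval P.X (C (v * f₁) * (C w * GQ))) := by
    rw [map_mul] at hgX
    exact isUnit_of_mul_isUnit_right hgX
  have hu2 : IsUnit (aeval P.X (C (v * f₁)) : P.Ring) := by
    rw [map_mul] at hu1
    exact isUnit_of_mul_isUnit_left hu1
  have hu3 : IsUnit (aeval P.X GQ : P.Ring) := by
    rw [map_mul] at hu1
    have h := isUnit_of_mul_isUnit_right hu1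
    rw [map_mul] at h
    exact isUnit_of_mul_isUnit_right h
  have hu4 : IsUnit (aQ v) := by
    rw [aeval_C, map_mul] at hu2
    exact isUnit_of_mul_isUnit_left hu2
  have hFX : eval₂ (MvPolynomial.eval₂Hom (aQ.comp iQ) (fun j => aQ (ξ' j))) (aQ y' + P.X) F = 0 := by
    rw [← hevX]
    rw [map_mul, aeval_C] at hfX
    exact (hu4.mul_right_eq_zero).mp hfX
  have hGX : IsUnit (eval₂ (MvPolynomial.eval₂Hom (aQ.comp iQ) (fun j => aQ (ξ' j))) (aQ y' + P.X) G) := by
    rw [← hevX]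
    exact hu3
  obtain ⟨p, hp1, hp2⟩ := hU P.Ring (aQ.comp iQ) (fun j => aQ (ξ' j)) (aQ y' + P.X) hFX hGX
  -- the residue map
  let _ : Algebra Q κ₁ := lQ.toAlgebra
  have hmap : P.HasMap (0 : κ₁) := by
    have h0 : ∀ H : Q[X], aeval (0 : κ₁) H = lQ (H.coeff 0) := by
      intro H
      rw [aeval_def, eval₂_at_zero]
      rfl
    refine ⟨?_, ?_⟩
    · rw [h0]; exact hf0
    · rw [h0]
      have : lQ (P.g.coeff 0) = 1 := by
        rw [map_sub, map_one, sub_eq_zero] at hg0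
        exact hg0
      rw [this]
      exact isUnit_one
  let ρ : P.Ring →ₐ[Q] κ₁ := P.lift 0 hmap
  have hρX : ρ P.X = 0 := P.lift_X 0 hmap
  have hρQ : ∀ a : Q, ρ (aQ a) = lQ a := fun a => ρ.commutes a
  refine ⟨q, hqm, P, F₀, F₁, G₀, hF₀, ?_, ?_, p, ρ, hp1, ?_, hρX, ?_, ?_⟩
  · rw [← hF₁]; ring
  · rw [← hG₀]; ring
  · refine RingHom.ext fun a => ?_
    change ρ (aQ (algebraMap R₁[X] Q a)) = lam a
    rw [hρQ]
    exact lamQ_algebraMap lam q hq0 a
  · refine hp2 ρ ?_ ?_ ?_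
    · rw [← hiQ]
      ext1 r
      exact hρQ _
    · intro j
      exact (hρQ _).trans (hξ' j)
    · change ρ (aQ y' + P.X) = y₀
      rw [map_add, hρX, add_zero, hρQ, hy']
  · intro b hb
    obtain ⟨h, k, e⟩ := exists_frac P b
    obtain ⟨U, hU⟩ := hgX
    have hb' : b = aeval P.X h * (↑U⁻¹ : P.Ring) ^ k := by
      change b * aeval P.X g ^ k = _ at e
      rw [← e, ← hU, mul_assoc, ← mul_pow, Units.mul_inv, one_pow, mul_one]
    have h1 : lQ (h.coeff 0) = 0 := by
      have h2 : ρ (aeval P.X h) = 0 := by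
        rw [← e, map_mul]
        change ρ b = 0 at hb
        rw [hb, zero_mul]
      have h3 : ρ (aeval P.X h) = aeval (ρ P.X) h := (aeval_algHom_apply ρ P.X h).symm
      rw [h3, hρX, aeval_def, eval₂_at_zero] at h2
      exact h2
    obtain ⟨h₀, hh₀⟩ := exists_of_lamQ_eq_zero lam q hq0 ϖ hker h1
    have h4 : aeval P.X h = P.X * aeval P.X h.divX + aQ (h.coeff 0) := by
      conv_lhs => rw [← X_mul_divX_add h]
      rw [map_add, map_mul, aeval_X, aeval_C]
    refine ⟨aQ h₀ * (↑U⁻¹ : P.Ring) ^ k, aeval P.X h.divX * (↑U⁻¹ : P.Ring) ^ k, ?_⟩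
    rw [hb', h4, hh₀, map_mul]
    change _ = aQ (algebraMap R₁[X] Q (C ϖ)) * _ + _
    ring

/-- The derivation `d/dz` on the étale algebra. -/
theorem exists_σP {R₁ : Type u} [CommRing R₁] (q : R₁[X]) (P : EtPair (Localization.Away q)) :
    ∃ σP : P.Ring →+* DualNumber P.Ring, (fstR _).comp σP = RingHom.id _ ∧
      (∀ r : R₁, σP (cst q P (C r)) = inl (cst q P (C r))) ∧
      σP (cst q P X) = inl (cst q P X) + inr 1 := by
  let τ₀ : R₁[X] →+* DualNumber P.Ring :=
    eval₂RingHom ((inlR P.Ring).comp ((cst q P).comp C)) (inl (cst q P X) + inr 1)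
  have hτ₀ : (fstR P.Ring).comp τ₀ = cst q P := by
    refine Polynomial.ringHom_ext (fun a => ?_) ?_
    · simp only [RingHom.comp_apply, τ₀, coe_eval₂RingHom, eval₂_C]
      rfl
    · simp only [RingHom.comp_apply, τ₀, coe_eval₂RingHom, eval₂_X, fstR_apply, fst_add, fst_inl, fst_inr, add_zero]
  have hu : IsUnit (τ₀ q) := by
    rw [isUnit_iff_isUnit_fst]
    change IsUnit ((fstR P.Ring).comp τ₀ q)
    rw [hτ₀]
    exact (IsLocalization.Away.algebraMap_isUnit (S := Localization.Away q) q).map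
      (algebraMap (Localization.Away q) P.Ring)
  let τ : Localization.Away q →+* DualNumber P.Ring := IsLocalization.Away.lift q hu
  have hτ : τ.comp (algebraMap R₁[X] (Localization.Away q)) = τ₀ := IsLocalization.Away.lift_comp _ hu
  obtain ⟨σ, h1, h2⟩ := exists_dual_lift (B := Localization.Away q) (E := P.Ring) (RingHom.id P.Ring) τ (by
    refine IsLocalization.ringHom_ext (Submonoid.powers q) ?_
    rw [RingHom.comp_assoc, hτ, hτ₀]
    rfl)
  have key : ∀ a : R₁[X], σ (cst q P a) = τ₀ a := by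
    intro a
    have h4 := RingHom.congr_fun h2 (algebraMap R₁[X] (Localization.Away q) a)
    have h5 := RingHom.congr_fun hτ a
    rw [RingHom.comp_apply] at h4 h5
    exact h4.trans h5
  refine ⟨σ, h1, fun r => ?_, ?_⟩
  · rw [key]
    simp only [τ₀, coe_eval₂RingHom, eval₂_C]
    rfl
  · rw [key]
    simp only [τ₀, coe_eval₂RingHom, eval₂_X]

end Groth.Agent.Sga7.H749.LiftPt2
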