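import Groth.Agent.Sga7.H749.Core2

/-!
# The stability argument, III: the main theorem
-/

set_option autoImplicit false
universe u

open CategoryTheory MonoidalCategory CartesianMonoidalCategory MonObj GrpObj AlgebraicGeometry Limits

noncomputable section

namespace Groth.Agent.Sga7.H749.StabCore

open Groth.Agent.Sga7.H749.DualLift Groth.Agent.Sga7.H749.Pts Groth.Agent.Sga7.H749.UStar
  Groth.Agent.Sga7.H749.Contra Groth.Agent.Sga7.H749.AffPts Groth.Agent.Sga7.H749.ResFrac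
  Groth.Agent.Sga7.H749.LiftPt2 Groth.Agent.Sga7.H749.AnnThm Groth.Agent.Sga7.H749.EtaleRing
  Groth.Agent.Sga7.H749.Core Groth.Agent.Sga7.H749.Core2

variable {R : Type u} [CommRing R] {N : Over (Spec (CommRingCat.of R))} [GrpObj N] {κ : Type u} [Field κ]
  {r : R →+* κ}

omit [GrpObj N] in
/-- values of functions at points which become equal. -/
lemma ev_eq_of_comp {V : N.left.Opens} {B B' C : Type u} [CommRing B] [CommRing B'] [CommRing C] {b : R →+* B}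
    {b' : R →+* B'} {c : R →+* C} (φ : B →+* C) (h : φ.comp b = c) (φ' : B' →+* C) (h' : φ'.comp b' = c)
    (x : SpecH b ⟶ N) (y : SpecH b' ⟶ N) (hxy : pmap φ h ≫ x = pmap φ' h' ≫ y)
    (hx : ⊤ ≤ x.left ⁻¹ᵁ V) (hy : ⊤ ≤ y.left ⁻¹ᵁ V) (f : Γ(N.left, V)) :
    φ (ev x.left hx f) = φ' (ev y.left hy f) := by
  have h1 : Spec.map (CommRingCat.ofHom φ) ≫ x.left = Spec.map (CommRingCat.ofHom φ') ≫ y.left :=
    congrArg (fun z => z.left) hxy
  have h2 : ⊤ ≤ (Spec.map (CommRingCat.ofHom φ) ≫ x.left) ⁻¹ᵁ V := by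
    intro p _
    exact hx (Set.mem_univ _)
  have h3 : ⊤ ≤ (Spec.map (CommRingCat.ofHom φ') ≫ y.left) ⁻¹ᵁ V := by
    intro p _
    exact hy (Set.mem_univ _)
  rw [← ev_comp φ x.left hx h2 f, ← ev_comp φ' y.left hy h3 f]
  exact ev_congr h1 h2 h3 f

/-- compatibility of the derivations on the étale algebra and on `κ(X)`. -/
lemma σΩ_comp {R₁ : Type u} [CommRing R₁] [IsLocalRing R₁] (φ₁ : R₁ →+* κ) [IsLocalHom φ₁]
    (q : Polynomial R₁) (P : EtPair (Localization.Away q)) (σP : P.Ring →+* DualNumber P.Ring)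
    (hσ1 : (fstR _).comp σP = RingHom.id _)
    (hσ2 : ∀ r : R₁, σP (cst q P (Polynomial.C r)) = TrivSqZeroExt.inl (cst q P (Polynomial.C r)))
    (hσ3 : σP (cst q P Polynomial.X) = TrivSqZeroExt.inl (cst q P Polynomial.X) + TrivSqZeroExt.inr 1)
    (ρ : P.Ring →+* FractionRing (Polynomial κ))
    (hρ : ∀ a, ρ (cst q P a) = algebraMap (Polynomial κ) _ (a.map φ₁))
    (σ : FractionRing (Polynomial κ) →+* DualNumber (FractionRing (Polynomial κ)))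
    (h1 : (fstR _).comp σ = RingHom.id _)
    (h2 : ∀ c : κ, σ (algebraMap (Polynomial κ) _ (Polynomial.C c)) =
      TrivSqZeroExt.inl (algebraMap (Polynomial κ) _ (Polynomial.C c)))
    (h3 : σ (algebraMap (Polynomial κ) _ Polynomial.X) =
      TrivSqZeroExt.inl (algebraMap (Polynomial κ) _ Polynomial.X) + TrivSqZeroExt.inr 1) :
    σ.comp ρ = (mapR ρ).comp σP := by
  refine dual_ext (B := Localization.Away q) ?_ ?_
  · rw [← RingHom.comp_assoc, h1, ← RingHom.comp_assoc, fstR_comp_mapR, RingHom.comp_assoc, hσ1]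
    rfl
  · refine IsLocalization.ringHom_ext (Submonoid.powers q) ?_
    refine Polynomial.ringHom_ext (fun a => ?_) ?_
    · change σ (ρ (cst q P (Polynomial.C a))) = mapR ρ (σP (cst q P (Polynomial.C a)))
      rw [hσ2, hρ, Polynomial.map_C, h2]
      ext
      · rw [fst_mapR, TrivSqZeroExt.fst_inl, TrivSqZeroExt.fst_inl, hρ, Polynomial.map_C]
      · rw [snd_mapR, TrivSqZeroExt.snd_inl, TrivSqZeroExt.snd_inl, map_zero]
    · change σ (ρ (cst q P Polynomial.X)) = mapR ρ (σP (cst q P Polynomial.X))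
      rw [hσ3, hρ, Polynomial.map_X, h3]
      ext
      · simp only [fst_mapR, TrivSqZeroExt.fst_add, TrivSqZeroExt.fst_inl, TrivSqZeroExt.fst_inr, add_zero, hρ,
          Polynomial.map_X]
      · simp only [snd_mapR, TrivSqZeroExt.snd_add, TrivSqZeroExt.snd_inl, TrivSqZeroExt.snd_inr, zero_add, map_one]

/-- The stability theorem. -/
theorem stab_core (J : GaFam N r) [Smooth N.hom] (V : N.left.Opens) (hVa : IsAffineOpen V) (hV : UnitIn N V) :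
    ∃ T : Finset κ, ∀ (R₁ : Type u) [CommRing R₁] [IsLocalRing R₁] (φ₁ : R₁ →+* κ) [IsLocalHom φ₁]
      (i : R →+* R₁) (ϖ : R₁), IsLocalRing.maximalIdeal R₁ = Ideal.span {ϖ} → φ₁.comp i = r →
      (∀ t ∈ T, t ∈ φ₁.range) →
      ∃ N₀ : ℕ, ∀ n ≥ N₀, ∀ (R₂ : Type u) [CommRing R₂] (i₂ : R₁ →+* R₂) (w : R₂),
        w ∈ nonZeroDivisors R₂ → ¬ IsUnit w → w ^ n = i₂ ϖ →
        ∀ (N₂ : Over (Spec (CommRingCat.of R₂))) [GrpObj N₂]
          (u : Red.bc (Spec.map (CommRingCat.ofHom (i₂.comp i))) N ⟶ N₂) [IsMonHom u] [IsOpenImmersion u.left],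
          (∀ (E : Type u) [CommRing E] [Algebra R₂ E] [Algebra.Smooth R₂ E]
            (x : SpecH ((algebraMap E (Localization.Away (algebraMap R₂ E w))).comp (algebraMap R₂ E)) ⟶ N₂),
            ∃ y : SpecH (algebraMap R₂ E) ⟶ N₂,
              pmap (algebraMap E (Localization.Away (algebraMap R₂ E w))) rfl ≫ y = x) → False := by
  obtain ⟨f₀, c, hc0, V', hVa', θ, hθ, T, hcf, hθN, hcT, hT⟩ := exists_T J V hVa hV
  refine ⟨T, ?_⟩
  intro R₁ _ _ φ₁ _ i ϖ hϖ hφi hTr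
  -- the residue field
  have hj₁inj : Function.Injective (j₁ φ₁) := (j₁ φ₁).injective
  obtain ⟨θ₁, hθ₁⟩ := exists_factor (j₁ φ₁) hj₁inj θ (hT R₁ φ₁ i hφi hTr)
  let _ : Algebra R Γ(N.left, V') := (algS hVa').toAlgebra
  have hsm : Algebra.Smooth R Γ(N.left, V') := smooth_algS hVa'
  have hθ₁' : θ₁.comp (algebraMap R Γ(N.left, V')) = ((lam R₁).comp Polynomial.C).comp i := by
    ext a
    apply hj₁inj
    have e1 : j₁ φ₁ (θ₁ (algS hVa' a)) = θ (algS hVa' a) := RingHom.congr_fun hθ₁ _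
    have e2 : θ (algS hVa' a) = kΩ κ (r a) := RingHom.congr_fun hθ a
    change j₁ φ₁ (θ₁ (algS hVa' a)) = j₁ φ₁ (lam R₁ (Polynomial.C (i a)))
    rw [e1, e2, j₁_lam, Polynomial.map_C, ← hφi]
    rfl
  obtain ⟨q, hqm, P, F₀, F₁, G₀, hF0, hF1, hG0, p, ρ, hp, hρc, hρX, hρp, hker⟩ :=
    exists_lift (S := Γ(N.left, V')) i (lam R₁) ϖ (fun a ha => lam_eq_zero hϖ a ha) fracs_lam θ₁ hθ₁'
  obtain ⟨σP, hσ1, hσ2, hσ3⟩ := exists_σP q P
  let b : R →+* P.Ring := ((cst q P).comp Polynomial.C).comp i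
  have hpb : p.comp (algS hVa') = b := hp
  let pN : SpecH b ⟶ N := ofHomPt hVa' p hpb
  have hσb : σP.comp b = (inlR P.Ring).comp b := by
    ext1 a
    exact hσ2 (i a)
  have hδV : ⊤ ≤ (dlog σP hσb pN).left ⁻¹ᵁ V := by
    apply le_preimage_of_fst
    have h1 : (fstR P.Ring).comp ((inlR P.Ring).comp b) = b := by
      rw [← RingHom.comp_assoc, fstR_comp_inlR, RingHom.id_comp]
    have h2 : Spec.map (CommRingCat.ofHom (fstR P.Ring)) ≫ (dlog σP hσb pN).left = (1 : SpecH b ⟶ N).left :=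
      congrArg (fun x => x.left) (fst_dlog σP hσb hσ1 pN h1)
    rw [h2]
    exact hV P.Ring b
  let d : P.Ring := (ev (dlog σP hσb pN).left hδV f₀).snd
  -- the residue of `d`
  let Ω := FractionRing (Polynomial κ)
  let ρΩ : P.Ring →+* Ω := (j₁ φ₁).comp ρ
  have hρΩ : ∀ a, ρΩ (cst q P a) = algebraMap (Polynomial κ) Ω (a.map φ₁) := by
    intro a
    have e1 : ρ (cst q P a) = lam R₁ a := RingHom.congr_fun hρc a
    change j₁ φ₁ (ρ (cst q P a)) = _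
    rw [e1, j₁_lam]
  obtain ⟨σΩ, hΩ1, hΩ2, hΩ3⟩ := exists_σΩ κ
  have hcomp : σΩ.comp ρΩ = (mapR ρΩ).comp σP :=
    σΩ_comp φ₁ q P σP hσ1 hσ2 hσ3 ρΩ hρΩ σΩ hΩ1 hΩ2 hΩ3
  have hρb : ρΩ.comp b = (kΩ κ).comp r := by
    ext1 a
    change ρΩ (cst q P (Polynomial.C (i a))) = _
    rw [hρΩ, Polynomial.map_C, ← hφi]
    rfl
  have hρpN : pmap ρΩ hρb ≫ pN = J.pt (kΩ κ) (zΩ κ) := by
    have e1 : ρΩ.comp p = θ := by
      rw [RingHom.comp_assoc, hρp, hθ₁]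
    rw [pmap_ofHomPt, ← hθN]
    congr 1
  have hσΩk : σΩ.comp (kΩ κ) = (inlR Ω).comp (kΩ κ) := RingHom.ext fun a => hΩ2 a
  have hσΩb : σΩ.comp ((kΩ κ).comp r) = (inlR Ω).comp ((kΩ κ).comp r) := by
    rw [← RingHom.comp_assoc, hσΩk, RingHom.comp_assoc]
  have hi1 : (mapR ρΩ).comp ((inlR P.Ring).comp b) = (inlR Ω).comp ((kΩ κ).comp r) := by
    rw [← RingHom.comp_assoc, mapR_comp_inlR, RingHom.comp_assoc, hρb]
  have hi2 : (mapR (kΩ κ)).comp ((inlR κ).comp r) = ((inlR Ω).comp (kΩ κ)).comp r := by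
    rw [← RingHom.comp_assoc, mapR_comp_inlR]
  have hδρ : pmap (mapR ρΩ) hi1 ≫ dlog σP hσb pN = pmap (mapR (kΩ κ)) hi2 ≫ J.tan := by
    rw [dlog_nat ρΩ hρb σP σΩ hσb hσΩb hcomp pN hi1, hρpN, dlog_pt J (kΩ κ) (zΩ κ) σΩ hσΩk hΩ3 hσΩb,
      tan_nat J (kΩ κ) hi2]
  have hval : mapR ρΩ (ev (dlog σP hσb pN).left hδV f₀) = mapR (kΩ κ) (ev J.tan.left (J.tan_le hV) f₀) :=
    ev_eq_of_comp (mapR ρΩ) hi1 (mapR (kΩ κ)) hi2 (dlog σP hσb pN) J.tan hδρ hδV (J.tan_le hV) f₀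
  have hρd : ρΩ d = kΩ κ c := by
    have h1 := congrArg TrivSqZeroExt.snd hval
    rw [snd_mapR, snd_mapR, ← hcf] at h1
    exact h1
  obtain ⟨c', hc'⟩ := hTr c hcT
  have hc'u : IsUnit c' := by
    apply isUnit_of_map_unit φ₁
    rw [hc']
    exact isUnit_iff_ne_zero.mpr hc0
  have hρdc : ρ (d - cst q P (Polynomial.C c')) = 0 := by
    apply hj₁inj
    rw [map_zero]
    change ρΩ (d - cst q P (Polynomial.C c')) = 0
    rw [map_sub, hρd, hρΩ, Polynomial.map_C, hc', sub_eq_zero]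
    rfl
  obtain ⟨a₁, a₂, ha⟩ := hker _ hρdc
  have hd : d = cst q P (Polynomial.C c') + cst q P (Polynomial.C ϖ) * a₁ + P.X * a₂ := by
    rw [sub_eq_iff_eq_add] at ha
    rw [ha]; ring
  obtain ⟨N₀, hN₀⟩ := exists_annulus ϖ q hqm P F₀ F₁ G₀ hF0 hF1 hG0 σP hσ1 hσ2 hσ3 d a₁ a₂ c' hd
  refine ⟨N₀, ?_⟩
  intro n hn R₂ _ i₂ w hw hwu hwn N₂ _ u _ _ hExt
  obtain ⟨E, _, _, _, hwE, hinj, ψ, σ, σL, hs1, hs2, hs3, hs4, hs5, hs6, e, he⟩ := hN₀ n hn R₂ i₂ w hw hwu hwn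
  refine contra (i₂.comp i) N V hV f₀ b pN σP hσb hδV d rfl (algebraMap R₂ E) w
    (algebraMap E (Localization.Away (algebraMap R₂ E w))) hinj ψ σ σL hs1 hs2 (RingHom.ext hs3) hs4 hs5 ?_
    (i₂ c') (hc'u.map i₂) e he hwE N₂ u (hExt E)
  ext1 a
  exact hs6 (i a)

end Groth.Agent.Sga7.H749.StabCore
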