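import Groth.Agent.Sga7.H749.Pts

/-!
# Transport of points along `u : bc f N ⟶ N₂`
-/

set_option autoImplicit false
universe u

open CategoryTheory MonoidalCategory CartesianMonoidalCategory MonObj GrpObj AlgebraicGeometry Limits

noncomputable section

namespace Groth.Agent.Sga7.H749.UStar

open Groth.Agent.Sga7.H749.DualLift Groth.Agent.Sga7.H749.Pts Groth.Agent.Sga3B.BcPts

variable {R R₂ : Type u} [CommRing R] [CommRing R₂] (j : R →+* R₂)
  {C D : Type u} [CommRing C] [CommRing D]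

/-- `Spec C` over `Spec R`, in two ways. -/
def mapIso (c : R₂ →+* C) {b : R →+* C} (h : c.comp j = b) :
    (Over.map (Spec.map (CommRingCat.ofHom j))).obj (SpecH c) ≅ SpecH b :=
  Over.isoMk (Iso.refl _) (by
    subst h
    change 𝟙 _ ≫ Spec.map _ = Spec.map _ ≫ Spec.map _
    rw [Category.id_comp, ← Spec.map_comp, ← CommRingCat.ofHom_comp])

@[simp] lemma mapIso_hom_left (c : R₂ →+* C) {b : R →+* C} (h : c.comp j = b) :
    (mapIso j c h).hom.left = 𝟙 _ := rfl

lemma map_pmap_mapIso (c : R₂ →+* C) {b : R →+* C} (h : c.comp j = b) (φ : C →+* D) {d : R₂ →+* D}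
    (hd : φ.comp c = d) {b' : R →+* D} (h' : d.comp j = b') (hb : φ.comp b = b') :
    (Over.map (Spec.map (CommRingCat.ofHom j))).map (pmap φ hd) ≫ (mapIso j c h).hom =
      (mapIso j d h').hom ≫ pmap φ hb := by
  ext1
  change Spec.map _ ≫ 𝟙 _ = 𝟙 _ ≫ Spec.map _
  rw [Category.comp_id, Category.id_comp]

variable {N : Over (Spec (CommRingCat.of R))} {N₂ : Over (Spec (CommRingCat.of R₂))}
  (u : Red.bc (Spec.map (CommRingCat.ofHom j)) N ⟶ N₂)

/-- the point of `N₂` attached to a point of `N`. -/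
def uStar (c : R₂ →+* C) {b : R →+* C} (h : c.comp j = b) (x : SpecH b ⟶ N) : SpecH c ⟶ N₂ :=
  bcEquiv (Spec.map (CommRingCat.ofHom j)) (SpecH c) N ((mapIso j c h).hom ≫ x) ≫ u

lemma pmap_uStar (c : R₂ →+* C) {b : R →+* C} (h : c.comp j = b) (x : SpecH b ⟶ N) (φ : C →+* D)
    {d : R₂ →+* D} (hd : φ.comp c = d) {b' : R →+* D} (h' : d.comp j = b') (hb : φ.comp b = b') :
    pmap φ hd ≫ uStar j u c h x = uStar j u d h' (pmap φ hb ≫ x) := by
  rw [uStar, uStar, ← Category.assoc, ← comp_bcEquiv, ← Category.assoc,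
    map_pmap_mapIso j c h φ hd h' hb, Category.assoc]

section grp

variable [GrpObj N] [GrpObj N₂] [IsMonHom u]

lemma uStar_mul (c : R₂ →+* C) {b : R →+* C} (h : c.comp j = b) (x y : SpecH b ⟶ N) :
    uStar j u c h (x * y) = uStar j u c h x * uStar j u c h y := by
  rw [uStar, uStar, uStar, MonObj.comp_mul, bcEquiv_mul, MonObj.mul_comp]

lemma uStar_one (c : R₂ →+* C) {b : R →+* C} (h : c.comp j = b) :
    uStar j u c h (1 : SpecH b ⟶ N) = 1 := by
  rw [uStar, MonObj.comp_one, bcEquiv_one, MonObj.one_comp]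

lemma uStar_inv (c : R₂ →+* C) {b : R →+* C} (h : c.comp j = b) (x : SpecH b ⟶ N) :
    uStar j u c h x⁻¹ = (uStar j u c h x)⁻¹ := by
  rw [eq_inv_iff_mul_eq_one, ← uStar_mul, inv_mul_cancel, uStar_one]

end grp

lemma uStar_injective [Mono u] (c : R₂ →+* C) {b : R →+* C} (h : c.comp j = b) {x y : SpecH b ⟶ N}
    (hxy : uStar j u c h x = uStar j u c h y) : x = y := by
  rw [uStar, uStar, cancel_mono] at hxy
  have := (bcEquiv (Spec.map (CommRingCat.ofHom j)) (SpecH c) N).injective hxy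
  rwa [cancel_epi] at this

lemma exists_uStar_eq [IsOpenImmersion u.left] (c : R₂ →+* C) {b : R →+* C} (h : c.comp j = b)
    (y : SpecH c ⟶ N₂) (hy : Set.range y.left ⊆ Set.range u.left) : ∃ x : SpecH b ⟶ N, uStar j u c h x = y := by
  let y' : SpecH c ⟶ Red.bc (Spec.map (CommRingCat.ofHom j)) N :=
    Over.homMk (IsOpenImmersion.lift u.left y.left hy) (by
      rw [← Over.w u, IsOpenImmersion.lift_fac_assoc, Over.w y])
  have hy' : y' ≫ u = y := by
    ext1
    exact IsOpenImmersion.lift_fac u.left y.left hy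
  refine ⟨(mapIso j c h).inv ≫ (bcEquiv (Spec.map (CommRingCat.ofHom j)) (SpecH c) N).symm y', ?_⟩
  rw [uStar, Iso.hom_inv_id_assoc, Equiv.apply_symm_apply, hy']

end Groth.Agent.Sga7.H749.UStar
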